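import Mathlib.AlgebraicGeometry.Modules.Tilde
import Mathlib.Algebra.Homology.ShortComplex.ExactFunctor

/-! `M ↦ M~` is exact. -/

set_option autoImplicit false
universe u

open CategoryTheory CategoryTheory.Limits AlgebraicGeometry TopologicalSpace Opposite

namespace FormalPunctLib

theorem mono_of_app_injective {Z : Scheme.{u}} {F G : Z.Modules} (φ : F ⟶ G)
    (h : ∀ V : Z.Opens, Function.Injective (φ.app V)) : Mono φ :=
  ⟨fun a b hab => SheafOfModules.hom_ext (PresheafOfModules.hom_ext fun V => by
    ext s
    exact h V.unop (congrArg (fun q => q.app V.unop s) hab))⟩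

/-- `M ↦ M~` preserves monomorphisms. -/
theorem preservesMono_tilde (R : CommRingCat.{u}) : (tilde.functor R).PreservesMonomorphisms :=
  ⟨fun {M N} f hf => mono_of_app_injective _ fun V s s' hss => by
    refine Subtype.ext (funext fun y => ?_)
    exact IsLocalizedModule.map_injective y.1.asIdeal.primeCompl
      (LocalizedModule.mkLinearMap y.1.asIdeal.primeCompl M)
      (LocalizedModule.mkLinearMap y.1.asIdeal.primeCompl N) f.hom
      ((ModuleCat.mono_iff_injective f).1 hf) (congrFun (congrArg Subtype.val hss) y)⟩

/-- `M ↦ M~` is exact. -/
theorem shortExact_tilde {R : CommRingCat.{u}} {S : ShortComplex (ModuleCat.{u} R)} (hS : S.ShortExact) :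
    (S.map (tilde.functor R)).ShortExact := by
  haveI := preservesMono_tilde R
  haveI : (tilde.functor R).IsLeftAdjoint := tilde.adjunction.isLeftAdjoint
  haveI := Functor.preservesHomology_of_preservesMonos_and_cokernels (tilde.functor R)
  haveI := Functor.preservesFiniteLimits_of_preservesHomology (tilde.functor R)
  haveI := Functor.preservesFiniteColimits_of_preservesHomology (tilde.functor R)
  exact hS.map_of_exact _

end FormalPunctLib
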