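import Groth.Agent.LocCohLib.Delta
import Mathlib.Algebra.Homology.DerivedCategory.Ext.ExactSequences
import Mathlib.Algebra.Homology.DerivedCategory.Ext.ExtClass

/-! `Ext` out of a fixed object composed with an exact functor, as a delta functor. -/

set_option autoImplicit false
universe w v v' u u'

noncomputable section

open CategoryTheory CategoryTheory.Limits CategoryTheory.Abelian

namespace FormalPunctLib

variable {C : Type u} [Category.{v} C] [Abelian C] {D : Type u'} [Category.{v'} D] [Abelian D] [HasExt.{w} D]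
  (G : C ⥤ D) [G.Additive] (hG : ∀ {S : ShortComplex C}, S.ShortExact → (S.map G).ShortExact) (X : D)

/-- `M ↦ Ext^i(X, G M)`. -/
abbrev extComp (i : ℕ) : C ⥤ AddCommGrpCat.{w} := G ⋙ extFunctorObj X i

/-- The delta functor `Ext^i(X, G -)`. -/
def extCompDelta : LocCohLib.DeltaFun C AddCommGrpCat.{w} where
  F := extComp G X
  preservesZero i := by
    refine ⟨fun M N => ?_⟩
    ext x
    show Ext.comp x (Ext.mk₀ (G.map (0 : M ⟶ N))) (add_zero _) = 0
    rw [G.map_zero, Ext.mk₀_zero, Ext.comp_zero]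
  δ {S} hS i := AddCommGrpCat.ofHom ((hG hS).extClass.postcomp X rfl)
  δ_natural {S S'} hS hS' φ i := by
    ext (x : Ext X (G.obj S.X₃) i)
    show (Ext.comp x (hG hS).extClass rfl).comp (Ext.mk₀ (G.map φ.τ₁)) (add_zero _) =
      (Ext.comp x (Ext.mk₀ (G.map φ.τ₃)) (add_zero _)).comp (hG hS').extClass rfl
    rw [Ext.comp_assoc (a₂₃ := 1) _ _ _ rfl (add_zero 1) (by omega),
      Ext.comp_assoc (a₂₃ := 1) _ _ _ (add_zero i) (zero_add 1) (by omega)]
    exact congrArg (fun z => Ext.comp x z rfl)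
      (ShortComplex.ShortExact.extClass_naturality (S₁ := S.map G) (S₂ := S'.map G)
        (hG hS) (hG hS') (G.mapShortComplex.map φ))
  map_comp_δ {S} hS i := by
    ext (x : Ext X (G.obj S.X₂) i)
    show (Ext.comp x (Ext.mk₀ (G.map S.g)) (add_zero _)).comp (hG hS).extClass rfl = 0
    rw [Ext.comp_assoc (a₂₃ := 1) _ _ _ (add_zero i) (zero_add 1) (by omega)]
    exact (congrArg (fun z => Ext.comp x z rfl) (hG hS).comp_extClass).trans (Ext.comp_zero x _ _ _ _)
  δ_comp_map {S} hS i := by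
    ext (x : Ext X (G.obj S.X₃) i)
    show (Ext.comp x (hG hS).extClass rfl).comp (Ext.mk₀ (G.map S.f)) (add_zero _) = 0
    rw [Ext.comp_assoc (a₂₃ := 1) _ _ _ rfl (add_zero 1) (by omega)]
    exact (congrArg (fun z => Ext.comp x z rfl) (hG hS).extClass_comp).trans (Ext.comp_zero x _ _ _ _)
  exact₁ hS i := Ext.covariant_sequence_exact₁' X (hG hS) i (i + 1) rfl
  exact₂ hS i := Ext.covariant_sequence_exact₂' X (hG hS) i
  exact₃ hS i := Ext.covariant_sequence_exact₃' X (hG hS) i (i + 1) rfl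
  mono₀ {S} hS := by
    rw [AddCommGrpCat.mono_iff_injective, injective_iff_map_eq_zero]
    intro (x : Ext X (G.obj S.X₁) 0) hx
    obtain ⟨φ, rfl⟩ := (Ext.homEquiv₀ (X := X) (Y := G.obj S.X₁)).symm.surjective x
    haveI : Mono (G.map S.f) := (hG hS).mono_f
    have h : Ext.mk₀ (φ ≫ G.map S.f) = 0 := (Ext.mk₀_comp_mk₀ _ _).symm.trans hx
    rw [Ext.mk₀_eq_zero_iff] at h
    show Ext.mk₀ φ = (0 : Ext X (G.obj S.X₁) 0)
    rw [Ext.mk₀_eq_zero_iff]
    exact (cancel_mono (G.map S.f)).1 (h.trans zero_comp.symm)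

end FormalPunctLib

end
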