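import Groth.Agent.FormalPunctLib.Zero
import Groth.Agent.IdealTransLib.Derived

/-! Cohomology of a punctured spectrum as local cohomology, naturally. -/

set_option autoImplicit false
set_option linter.style.haveILetI false
set_option maxHeartbeats 1000000
universe u

noncomputable section

open CategoryTheory CategoryTheory.Limits AlgebraicGeometry TopologicalSpace Opposite

namespace FormalPunctLib

section Comp

variable {C D E : Type*} [Category C] [Abelian C] [Category D] [Abelian D] [Category E] [Abelian E]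

/-- A delta functor followed by an exact functor. -/
def compExact (T : LocCohLib.DeltaFun C D) (G : D ⥤ E) [G.Additive] [PreservesFiniteLimits G]
    [PreservesFiniteColimits G] : LocCohLib.DeltaFun C E where
  F i := T.F i ⋙ G
  preservesZero i := haveI := T.preservesZero i; inferInstance
  δ hS i := G.map (T.δ hS i)
  δ_natural hS hS' φ i := by
    rw [Functor.comp_map, Functor.comp_map, ← G.map_comp, ← G.map_comp, T.δ_natural hS hS' φ i]
  map_comp_δ hS i := by
    rw [Functor.comp_map, ← G.map_comp, T.map_comp_δ, G.map_zero]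
  δ_comp_map hS i := by
    rw [Functor.comp_map, ← G.map_comp, T.δ_comp_map, G.map_zero]
  exact₁ hS i := (T.exact₁ hS i).map G
  exact₂ hS i := haveI := T.preservesZero i; (T.exact₂ hS i).map G
  exact₃ hS i := (T.exact₃ hS i).map G
  mono₀ hS := haveI := T.mono₀ hS; inferInstanceAs (Mono (G.map _))

theorem compExact_effaceable {T : LocCohLib.DeltaFun C D} (h : T.Effaceable) (G : D ⥤ E) [G.Additive]
    [PreservesFiniteLimits G] [PreservesFiniteColimits G] : (compExact T G).Effaceable :=
  fun X hX i => G.map_isZero (h X hX i)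

end Comp

variable {A : Type u} [CommRing A] [IsNoetherianRing A] (J : Ideal A)

/-- `H^i` of the punctured spectrum, as a functor. -/
abbrev HP (i : ℕ) : ModuleCat.{u} A ⥤ AddCommGrpCat.{u} :=
  (hvDelta A (LocCoh.puncturedOpen A J)).F i

/-- Local cohomology, as abelian groups. -/
abbrev LC (i : ℕ) : ModuleCat.{u} A ⥤ AddCommGrpCat.{u} :=
  localCohomology J i ⋙ forget₂ (ModuleCat.{u} A) AddCommGrpCat.{u}

theorem nonempty_punctIso (i : ℕ) (hi : 1 ≤ i) : Nonempty (HP J i ≅ LC J (i + 1)) := by
  obtain ⟨e⟩ := IdealTransLib.nonempty_extTransformIso J i hi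
  exact ⟨LocCohLib.DeltaFun.isoOfZero (T := hvDelta A (LocCoh.puncturedOpen A J))
    (T' := compExact (IdealTransLib.extDelta J) (forget₂ (ModuleCat.{u} A) AddCommGrpCat.{u}))
    (hvDelta_effaceable _) (compExact_effaceable (IdealTransLib.extDelta_effaceable J) _)
    (zeroIso J ≪≫ (Functor.isoWhiskerRight (IdealTransLib.extZeroIso J) _).symm) i ≪≫
    Functor.isoWhiskerRight e _⟩

/-- Comparison with local cohomology in positive degrees. -/
def punctIso (i : ℕ) (hi : 1 ≤ i) : HP J i ≅ LC J (i + 1) := (nonempty_punctIso J i hi).some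

/-- `M → H^0`. -/
def ηP (M : ModuleCat.{u} A) : M →+ (HP J 0).obj M :=
  (zeroEquiv J M).symm.toAddMonoidHom.comp (LocCoh.toDT J M).toAddMonoidHom

/-- `H^0 → H^1_J`. -/
def κP (M : ModuleCat.{u} A) : (HP J 0).obj M →+ (localCohomology J 1).obj M :=
  (IdealTransLib.kappaHom J M).toAddMonoidHom.comp (zeroEquiv J M).toAddMonoidHom

theorem zeroEquiv_natural {M N : ModuleCat.{u} A} (φ : M ⟶ N) (x : (HP J 0).obj M) :
    zeroEquiv J N (((HP J 0).map φ).hom x) = IdealTransLib.Dmap J φ.hom (zeroEquiv J M x) :=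
  ConcreteCategory.congr_hom ((zeroIso J).hom.naturality φ) x

theorem ηP_natural {M N : ModuleCat.{u} A} (φ : M ⟶ N) (m : M) :
    ((HP J 0).map φ).hom (ηP J M m) = ηP J N (φ.hom m) := by
  refine (zeroEquiv J N).injective ((zeroEquiv_natural J φ _).trans ?_)
  show IdealTransLib.Dmap J φ.hom (zeroEquiv J M ((zeroEquiv J M).symm (LocCoh.toDT J M m))) =
    zeroEquiv J N ((zeroEquiv J N).symm (LocCoh.toDT J N (φ.hom m)))
  rw [AddEquiv.apply_symm_apply, AddEquiv.apply_symm_apply, IdealTransLib.Dmap_toDT]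

theorem κP_natural {M N : ModuleCat.{u} A} (φ : M ⟶ N) (x : (HP J 0).obj M) :
    κP J N (((HP J 0).map φ).hom x) = ((localCohomology J 1).map φ).hom (κP J M x) :=
  (congrArg (IdealTransLib.kappaHom J N) (zeroEquiv_natural J φ x)).trans
    (ConcreteCategory.congr_hom ((IdealTransLib.kappa J).naturality φ) (zeroEquiv J M x))

theorem ηP_eq_zero_iff (M : ModuleCat.{u} A) (m : M) : ηP J M m = 0 ↔ m ∈ DRing.torsionSub J M := by
  rw [← IdealTransLib.ker_toDT, LinearMap.mem_ker]
  exact (zeroEquiv J M).symm.map_eq_zero_iff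

theorem κP_eq_zero_iff (M : ModuleCat.{u} A) (x : (HP J 0).obj M) : κP J M x = 0 ↔ ∃ m, ηP J M m = x := by
  show zeroEquiv J M x ∈ LinearMap.ker (IdealTransLib.kappaHom J M) ↔ _
  rw [IdealTransLib.ker_kappa]
  exact ⟨fun ⟨m, hm⟩ => ⟨m, (congrArg (zeroEquiv J M).symm hm).trans ((zeroEquiv J M).symm_apply_apply x)⟩,
    fun ⟨m, hm⟩ => ⟨m, ((zeroEquiv J M).apply_symm_apply _).symm.trans (congrArg (zeroEquiv J M) hm)⟩⟩

theorem κP_surjective (M : ModuleCat.{u} A) : Function.Surjective (κP J M) :=
  (IdealTransLib.kappa_surjective (I := J) M).comp (zeroEquiv J M).surjective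

end FormalPunctLib

end
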