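import Groth.Prelude.Def_Formal2
import Groth.Agent.TowerLib.Basic
import Groth.Agent.S14616

/-! The systems `F (M / I^(n+1) M)`. -/

set_option autoImplicit false
universe u

noncomputable section

open CategoryTheory

namespace FormalPunctLib

variable {A : Type u} [CommRing A] (I : Ideal A) (M : Type u) [AddCommGroup M] [Module A M]

/-- `M / I^(n+1) M`. -/
abbrev qn (n : ℕ) : ModuleCat.{u} A := ModuleCat.of A (Formal2.quotPow A I M n)

/-- The projection. -/
abbrev qπ (n : ℕ) : ModuleCat.of A M ⟶ qn I M n := ModuleCat.ofHom (Formal2.quotPowπ A I M n)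

/-- The successive transition map. -/
abbrev qt (n : ℕ) : qn I M (n + 1) ⟶ qn I M n := ModuleCat.ofHom (Formal2.quotPowTrans A I M n)

/-- The transition maps. -/
def qT {n m : ℕ} (h : n ≤ m) : qn I M m ⟶ qn I M n :=
  ModuleCat.ofHom (Submodule.mapQ _ _ LinearMap.id (by
    rw [Submodule.comap_id]
    exact Submodule.smul_mono_left (Ideal.pow_le_pow_right (Nat.succ_le_succ h))))

theorem qT_apply {n m : ℕ} (h : n ≤ m) (x : M) :
    (qT I M h).hom ((qπ I M m).hom x) = (qπ I M n).hom x := rfl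

theorem qt_apply (n : ℕ) (x : M) : (qt I M n).hom ((qπ I M (n + 1)).hom x) = (qπ I M n).hom x :=
  rfl

theorem qT_self (n : ℕ) : qT I M (le_refl n) = 𝟙 _ :=
  ModuleCat.hom_ext (Submodule.linearMap_qext _ (LinearMap.ext fun x => qT_apply I M (le_refl n) x))

theorem qπ_qt (n : ℕ) : qπ I M (n + 1) ≫ qt I M n = qπ I M n := by
  ext x
  rfl

theorem qT_qt {i n : ℕ} (h : i ≤ n) : qt I M n ≫ qT I M h = qT I M (h.trans (Nat.le_succ n)) := by
  refine ModuleCat.hom_ext (Submodule.linearMap_qext _ (LinearMap.ext fun x => ?_))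
  exact ((congrArg (qT I M h).hom (qt_apply I M n x)).trans (qT_apply I M h x)).trans (qT_apply I M (h.trans (Nat.le_succ n)) x).symm

variable {I M} (F : ModuleCat.{u} A ⥤ AddCommGrpCat.{u})

/-- The levels. -/
abbrev G (I : Ideal A) (M : Type u) [AddCommGroup M] [Module A M] (n : ℕ) : Type u := F.obj (qn I M n)

/-- The successive maps. -/
abbrev tr (I : Ideal A) (M : Type u) [AddCommGroup M] [Module A M] (n : ℕ) : G F I M (n + 1) →+ G F I M n :=
  (F.map (qt I M n)).hom

theorem towerT_eq {i n : ℕ} (h : i ≤ n) (a : G F I M n) :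
    Groth.Agent.TowerLib.T (G F I M) (tr F I M) h a = (F.map (qT I M h)).hom a := by
  induction n, h using Nat.le_induction with
  | base =>
    rw [Groth.Agent.TowerLib.T_self, qT_self, F.map_id]
    rfl
  | succ n h ih =>
    rw [← qT_qt I M h, F.map_comp,
      ← Groth.Agent.TowerLib.T_trans (G F I M) (tr F I M) h (Nat.le_succ n), Groth.Agent.TowerLib.T_succ, ih]
    rfl

/-- `F M → lim_n F (M / I^(n+1) M)` is bijective. -/
structure FBij (I : Ideal A) (M : Type u) [AddCommGroup M] [Module A M] : Prop where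
  inj : ∀ x : F.obj (ModuleCat.of A M), (∀ n, (F.map (qπ I M n)).hom x = 0) → x = 0
  surj : ∀ y : ∀ n, G F I M n, (∀ n, tr F I M n (y (n + 1)) = y n) →
    ∃ x : F.obj (ModuleCat.of A M), ∀ n, (F.map (qπ I M n)).hom x = y n

/-- The system `F (M / I^(n+1) M)` is Mittag-Leffler. -/
def FML (I : Ideal A) (M : Type u) [AddCommGroup M] [Module A M] : Prop :=
  ∀ n, ∃ (k : ℕ) (hk : n ≤ k), ∀ (l : ℕ) (hl : k ≤ l) (x : G F I M k),
    ∃ y : G F I M l, (F.map (qT I M (hk.trans hl))).hom y = (F.map (qT I M hk)).hom x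

theorem FML.surjective_towerDiff (h : FML F I M) :
    Function.Surjective (Formal2.towerDiff (G F I M) (tr F I M)) := by
  refine Groth.Agent.S14616.result _ _ ?_
  intro ⟨n⟩
  obtain ⟨k, hk, hl⟩ := h n
  refine ⟨Opposite.op k, (homOfLE hk).op, ?_⟩
  intro ⟨l⟩ g
  rintro _ ⟨x, rfl⟩
  by_cases hkl : k ≤ l
  · obtain ⟨y, hy⟩ := hl l hkl x
    refine ⟨y, ?_⟩
    show Groth.Agent.TowerLib.T (G F I M) (tr F I M) (leOfHom g.unop) y =
      Groth.Agent.TowerLib.T (G F I M) (tr F I M) hk x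
    rw [towerT_eq, towerT_eq]
    exact hy
  · have hlk : l ≤ k := (not_le.1 hkl).le
    refine ⟨Groth.Agent.TowerLib.T (G F I M) (tr F I M) hlk x, ?_⟩
    show Groth.Agent.TowerLib.T (G F I M) (tr F I M) (leOfHom g.unop) (Groth.Agent.TowerLib.T (G F I M) (tr F I M) hlk x) =
      Groth.Agent.TowerLib.T (G F I M) (tr F I M) hk x
    rw [Groth.Agent.TowerLib.T_trans]

variable {F}

/-- Transfer along a natural isomorphism. -/
theorem FBij.of_iso {F' : ModuleCat.{u} A ⥤ AddCommGrpCat.{u}} (e : F ≅ F') (h : FBij F I M) :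
    FBij F' I M := by
  have nat : ∀ {X Y : ModuleCat.{u} A} (φ : X ⟶ Y) (x : F'.obj X),
      (e.inv.app Y).hom ((F'.map φ).hom x) = (F.map φ).hom ((e.inv.app X).hom x) := fun φ x =>
    ConcreteCategory.congr_hom (e.inv.naturality φ) x
  have nat' : ∀ {X Y : ModuleCat.{u} A} (φ : X ⟶ Y) (x : F.obj X),
      (e.hom.app Y).hom ((F.map φ).hom x) = (F'.map φ).hom ((e.hom.app X).hom x) := fun φ x =>
    ConcreteCategory.congr_hom (e.hom.naturality φ) x
  refine ⟨fun x hx => ?_, fun y hy => ?_⟩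
  · have h0 := h.inj ((e.inv.app _).hom x) fun n => by rw [← nat, hx n, map_zero]
    exact (e.inv_hom_id_app_apply _ x).symm.trans ((congrArg (e.hom.app _).hom h0).trans (map_zero _))
  · obtain ⟨x, hx⟩ := h.surj (fun n => (e.inv.app _).hom (y n)) fun n => by
      show (F.map (qt I M n)).hom _ = _
      rw [← nat]
      exact congrArg _ (hy n)
    refine ⟨(e.hom.app _).hom x, fun n => ?_⟩
    rw [← nat', hx n]
    exact e.inv_hom_id_app_apply _ (y n)

theorem FML.of_iso {F' : ModuleCat.{u} A ⥤ AddCommGrpCat.{u}} (e : F ≅ F') (h : FML F I M) :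
    FML F' I M := by
  intro n
  obtain ⟨k, hk, hl⟩ := h n
  refine ⟨k, hk, fun l hkl x => ?_⟩
  obtain ⟨y, hy⟩ := hl l hkl ((e.inv.app _).hom x)
  refine ⟨(e.hom.app _).hom y, ?_⟩
  refine (ConcreteCategory.congr_hom (e.hom.naturality (qT I M (hk.trans hkl))) y).symm.trans ?_
  refine (congrArg (e.hom.app _).hom hy).trans ?_
  refine (ConcreteCategory.congr_hom (e.hom.naturality (qT I M hk)) _).trans ?_
  exact congrArg (F'.map (qT I M hk)).hom (e.inv_hom_id_app_apply _ x)

end FormalPunctLib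

end
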