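import Groth.Agent.FormalPunctLib.Iso
import Groth.Agent.FormalPunctLib.Systems
import Groth.Agent.DRingLib.RgammaCompletion

/-! From local cohomology of the systems to cohomology on punctured spectra. -/

set_option autoImplicit false
set_option linter.style.haveILetI false
set_option maxHeartbeats 1000000
universe u

noncomputable section

open CategoryTheory AlgebraicGeometry

namespace FormalPunctLib

section Five

variable {M P H : Type u} [AddCommGroup M] [AddCommGroup P] [AddCommGroup H]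
  {Mn Pn Hn : ℕ → Type u} [∀ n, AddCommGroup (Mn n)] [∀ n, AddCommGroup (Pn n)] [∀ n, AddCommGroup (Hn n)]

/-- A five lemma for limits of towers. -/
theorem fiveLim {p : ∀ n, Mn (n + 1) →+ Mn n} {P' : ∀ n, Pn (n + 1) →+ Pn n} {H' : ∀ n, Hn (n + 1) →+ Hn n}
    {q : ∀ n, M →+ Mn n} {qP : ∀ n, P →+ Pn n} {qH : ∀ n, H →+ Hn n}
    {η : M →+ P} {ηn : ∀ n, Mn n →+ Pn n} {κ : P →+ H} {κn : ∀ n, Pn n →+ Hn n}
    (hη : ∀ m n, qP n (η m) = ηn n (q n m)) (hηn : ∀ n m, P' n (ηn (n + 1) m) = ηn n (p n m))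
    (hκ : ∀ x n, κn n (qP n x) = qH n (κ x)) (hκn : ∀ n x, κn n (P' n x) = H' n (κn (n + 1) x))
    (hP : ∀ x n, P' n (qP (n + 1) x) = qP n x)
    (hex : ∀ x, κ x = 0 → ∃ m, η m = x) (hexn : ∀ n x, κn n x = 0 → ∃ m, ηn n m = x)
    (hsurjκ : Function.Surjective κ) (_hcompn : ∀ n m, κn n (ηn n m) = 0)
    (Hinj : ∀ h, (∀ n, qH n h = 0) → h = 0)
    (Hsurj : ∀ y : ∀ n, Hn n, (∀ n, H' n (y (n + 1)) = y n) → ∃ h, ∀ n, qH n h = y n)
    (Minj : ∀ m, (∀ n, q n m = 0) → m = 0)
    (Msurj : ∀ v : ∀ n, Mn n, (∀ n, p n (v (n + 1)) = v n) → ∃ m, ∀ n, q n m = v n)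
    (Γsurj : ∀ t : ∀ n, Mn n, (∀ n, ηn n (t n) = 0) → (∀ n, p n (t (n + 1)) = t n) →
      ∃ γ, η γ = 0 ∧ ∀ n, q n γ = t n)
    (Γone : ∀ d : ∀ n, Mn n, (∀ n, ηn n (d n) = 0) →
      ∃ e : ∀ n, Mn n, (∀ n, ηn n (e n) = 0) ∧ ∀ n, e n - p n (e (n + 1)) = d n)
    (hq : ∀ m n, p n (q (n + 1) m) = q n m := by intros; rfl) :
    (∀ x, (∀ n, qP n x = 0) → x = 0) ∧
      ∀ y : ∀ n, Pn n, (∀ n, P' n (y (n + 1)) = y n) → ∃ x, ∀ n, qP n x = y n := by
  refine ⟨fun x hx => ?_, fun y hy => ?_⟩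
  · obtain ⟨m, rfl⟩ := hex x (Hinj _ fun n => by rw [← hκ, hx, map_zero])
    obtain ⟨γ, hγ, hγn⟩ := Γsurj (fun n => q n m) (fun n => by rw [← hη, hx]) (hq m)
    rw [← sub_add_cancel m γ, map_add, hγ, add_zero,
      Minj (m - γ) fun n => by rw [map_sub, hγn, sub_self], map_zero]
  · obtain ⟨c, hc⟩ := Hsurj (fun n => κn n (y n)) fun n => by rw [← hκn, hy]
    obtain ⟨x0, rfl⟩ := hsurjκ c
    choose v hv using fun n => hexn n (y n - qP n x0) (by rw [map_sub, hκ, hc, sub_self])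
    obtain ⟨e, he, hed⟩ := Γone (fun n => p n (v (n + 1)) - v n) fun n => by
      rw [map_sub, ← hηn, hv, hv, map_sub, hy, hP, sub_self]
    obtain ⟨m, hm⟩ := Msurj (fun n => v n + e n) fun n => by
      rw [map_add]
      linear_combination (norm := abel) -(hed n)
    refine ⟨η m + x0, fun n => ?_⟩
    rw [map_add, hη, hm, map_add, he, add_zero, hv, sub_add_cancel]

end Five

variable {A : Type u} [CommRing A] (I J : Ideal A) (M : Type u) [AddCommGroup M] [Module A M]

theorem formalCohBijective_iff (i : ℕ) (V : (Spec (CommRingCat.of A)).Opens) :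
    Formal2.FormalCohBijective A I M i V ↔ FBij ((hvDelta A V).F i) I M := by
  refine ⟨fun h => ⟨fun x hx => h.1 x 0 fun n => (hx n).trans (map_zero _).symm, h.2⟩,
    fun h => ⟨fun x x' hx => ?_, h.surj⟩⟩
  refine sub_eq_zero.1 (h.inj (x - x') fun n => ?_)
  exact (map_sub (((hvDelta A V).F i).map (qπ I M n)).hom x x').trans (sub_eq_zero.2 (hx n))

variable [IsNoetherianRing A] {I J M}

/-- Degree zero local cohomology as torsion. -/
theorem torsion_lift (h : FBij (LC J 0) I M) (t : ∀ n, qn I M n)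
    (ht : ∀ n, t n ∈ DRing.torsionSub J (qn I M n)) (hc : ∀ n, (qt I M n).hom (t (n + 1)) = t n) :
    ∃ γ ∈ DRing.torsionSub J M, ∀ n, (qπ I M n).hom γ = t n := by
  let e := LocCohLib.lcZeroIso J
  obtain ⟨x, hx⟩ := h.surj (fun n => (e.inv.app (qn I M n)).hom (⟨t n, ht n⟩ : DRing.torsionSub J (qn I M n)))
    fun n => by
      refine (ConcreteCategory.congr_hom (e.inv.naturality (qt I M n)) _).symm.trans ?_
      exact congrArg (e.inv.app (qn I M n)).hom (Subtype.ext (hc n))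
  refine ⟨((e.hom.app (ModuleCat.of A M)).hom x : DRing.torsionSub J M).1,
    ((e.hom.app (ModuleCat.of A M)).hom x : DRing.torsionSub J M).2, fun n => ?_⟩
  have h1 := ConcreteCategory.congr_hom (e.hom.naturality (qπ I M n)) x
  have h2 : (e.hom.app (qn I M n)).hom (((localCohomology J 0).map (qπ I M n)).hom x) =
      (⟨t n, ht n⟩ : DRing.torsionSub J (qn I M n)) :=
    (congrArg (e.hom.app (qn I M n)).hom (hx n)).trans (e.inv_hom_id_app_apply _ _)
  exact congrArg Subtype.val (h1.symm.trans h2)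

theorem fML_torsion (h : FML (LC J 0) I M) (d : ∀ n, qn I M n)
    (hd : ∀ n, d n ∈ DRing.torsionSub J (qn I M n)) :
    ∃ e : ∀ n, qn I M n, (∀ n, e n ∈ DRing.torsionSub J (qn I M n)) ∧
      ∀ n, e n - (qt I M n).hom (e (n + 1)) = d n := by
  let z := LocCohLib.lcZeroIso J
  obtain ⟨w, hw⟩ := h.surjective_towerDiff (F := LC J 0)
    (fun n => (z.inv.app (qn I M n)).hom (⟨d n, hd n⟩ : DRing.torsionSub J (qn I M n)))
  refine ⟨fun n => ((z.hom.app (qn I M n)).hom (w n) : DRing.torsionSub J (qn I M n)).1,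
    fun n => ((z.hom.app (qn I M n)).hom (w n) : DRing.torsionSub J (qn I M n)).2, fun n => ?_⟩
  have h2 : (z.hom.app (qn I M n)).hom
      ((show (localCohomology J 0).obj (qn I M n) from w n) -
        (show (localCohomology J 0).obj (qn I M n) from ((localCohomology J 0).map (qt I M n)).hom (w (n + 1)))) =
      (⟨d n, hd n⟩ : DRing.torsionSub J (qn I M n)) :=
    (congrArg (z.hom.app (qn I M n)).hom (congrFun hw n)).trans (z.inv_hom_id_app_apply _ _)
  have h3 := ConcreteCategory.congr_hom (z.hom.naturality (qt I M n)) (w (n + 1))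
  rw [map_sub] at h2
  refine Eq.trans ?_ (congrArg Subtype.val h2)
  exact congrArg (fun v : DRing.torsionSub J (qn I M n) => ((z.hom.app (qn I M n)).hom (w n) : DRing.torsionSub J (qn I M n)).1 - v.1) h3.symm

theorem qm_bijective [IsAdicComplete I A] [Module.Finite A M] :
    (∀ m : M, (∀ n, (qπ I M n).hom m = 0) → m = 0) ∧
      ∀ v : ∀ n, qn I M n, (∀ n, (qt I M n).hom (v (n + 1)) = v n) → ∃ m : M, ∀ n, (qπ I M n).hom m = v n := by
  haveI := Groth.Agent.DRingLib.isAdicComplete_of_finite (I := I) M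
  refine ⟨fun m hm => IsHausdorff.haus (inferInstance : IsHausdorff I M) _ fun n => ?_, fun v hv => ?_⟩
  · cases n with
    | zero => simp [SModEq.zero]
    | succ n =>
      rw [SModEq.zero, ← Submodule.Quotient.mk_eq_zero]
      exact hm n
  choose m hm using fun n => Submodule.mkQ_surjective (I ^ (n + 1) • ⊤ : Submodule A M) (v n)
  have hstep : ∀ n k, n ≤ k → (qπ I M n).hom (m k) = v n := by
    intro n k hnk
    induction k, hnk using Nat.le_induction with
    | base => exact hm n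
    | succ k hnk ih =>
      have h : (qπ I M k).hom (m (k + 1)) = v k :=
        (qt_apply I M k (m (k + 1))).symm.trans ((congrArg (qt I M k).hom (hm (k + 1))).trans (hv k))
      have h2 : (qπ I M n).hom (m (k + 1)) = (qπ I M n).hom (m k) := by
        have hsub := (Submodule.Quotient.eq _).1 (h.trans (hm k).symm)
        exact (Submodule.Quotient.eq _).2 (Submodule.smul_mono_left (Ideal.pow_le_pow_right (by omega)) hsub)
      exact h2.trans ih
  obtain ⟨L, hL⟩ := IsPrecomplete.prec (inferInstance : IsPrecomplete I M) (f := m) fun {a b} hab => by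
    cases a with
    | zero => simp [SModEq.def, Submodule.Quotient.eq]
    | succ a =>
      rw [SModEq.def]
      exact (hstep a (a + 1) (Nat.le_succ a)).trans (hstep a b (Nat.le_of_succ_le hab)).symm
  exact ⟨L, fun n => ((show (qπ I M n).hom (m (n + 1)) = (qπ I M n).hom L from hL (n + 1))).symm.trans (hstep n (n + 1) (Nat.le_succ n))⟩

theorem fBij_of_fourTerm [IsAdicComplete I A] [Module.Finite A M] (F : ModuleCat.{u} A ⥤ AddCommGrpCat.{u})
    (η : ∀ N : ModuleCat.{u} A, N →+ F.obj N) (κ : ∀ N : ModuleCat.{u} A, F.obj N →+ (LC J 1).obj N)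
    (hη : ∀ {N N' : ModuleCat.{u} A} (φ : N ⟶ N') (m : N), (F.map φ).hom (η N m) = η N' (φ.hom m))
    (hκ : ∀ {N N' : ModuleCat.{u} A} (φ : N ⟶ N') (x : F.obj N), κ N' ((F.map φ).hom x) = ((LC J 1).map φ).hom (κ N x))
    (hη0 : ∀ (N : ModuleCat.{u} A) (m : N), η N m = 0 ↔ m ∈ DRing.torsionSub J N)
    (hκ0 : ∀ (N : ModuleCat.{u} A) (x : F.obj N), κ N x = 0 ↔ ∃ m, η N m = x)
    (hκs : ∀ N : ModuleCat.{u} A, Function.Surjective (κ N))
    (h0 : FBij (LC J 0) I M) (h1 : FBij (LC J 1) I M) (hml : FML (LC J 0) I M) : FBij F I M := by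
  obtain ⟨hinj, hsurj⟩ := fiveLim
    (p := fun n => (qt I M n).hom.toAddMonoidHom) (P' := fun n => (F.map (qt I M n)).hom)
    (H' := fun n => ((LC J 1).map (qt I M n)).hom)
    (q := fun n => (qπ I M n).hom.toAddMonoidHom) (qP := fun n => (F.map (qπ I M n)).hom)
    (qH := fun n => ((LC J 1).map (qπ I M n)).hom)
    (η := η (ModuleCat.of A M)) (ηn := fun n => η (qn I M n))
    (κ := κ (ModuleCat.of A M)) (κn := fun n => κ (qn I M n))
    (fun m n => hη (qπ I M n) m) (fun n m => hη (qt I M n) m)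
    (fun x n => hκ (qπ I M n) x) (fun n x => hκ (qt I M n) x)
    (fun x n => by
      show (F.map (qt I M n)).hom ((F.map (qπ I M (n + 1))).hom x) = (F.map (qπ I M n)).hom x
      rw [← qπ_qt I M n, Functor.map_comp]
      rfl)
    (fun x => (hκ0 _ x).1) (fun n x => (hκ0 _ x).1) (hκs _)
    (fun n m => (hκ0 _ _).2 ⟨m, rfl⟩)
    h1.inj h1.surj qm_bijective.1 qm_bijective.2
    (fun t ht hc => by
      obtain ⟨γ, hγ, h⟩ := torsion_lift h0 t (fun n => (hη0 _ _).1 (ht n)) hc
      exact ⟨γ, (hη0 _ _).2 hγ, h⟩)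
    (fun d hd => by
      obtain ⟨e, he, h⟩ := fML_torsion hml d (fun n => (hη0 _ _).1 (hd n))
      exact ⟨e, fun n => (hη0 _ _).2 (he n), h⟩)
  exact ⟨hinj, hsurj⟩

theorem κP_natural' (J : Ideal A) {N N' : ModuleCat.{u} A} (φ : N ⟶ N') (x : (HP J 0).obj N) :
    κP J N' (((HP J 0).map φ).hom x) = ((LC J 1).map φ).hom (κP J N x) :=
  κP_natural J φ x

theorem fBij_HP_zero [IsAdicComplete I A] [Module.Finite A M] (h0 : FBij (LC J 0) I M)
    (h1 : FBij (LC J 1) I M) (hml : FML (LC J 0) I M) : FBij (HP J 0) I M :=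
  fBij_of_fourTerm (HP J 0) (ηP J) (κP J) (ηP_natural J) (κP_natural' J) (ηP_eq_zero_iff J)
    (κP_eq_zero_iff J) (κP_surjective J) h0 h1 hml

theorem formalCohBijective_punct_zero [IsAdicComplete I A] [Module.Finite A M] (h0 : FBij (LC J 0) I M)
    (h1 : FBij (LC J 1) I M) (hml : FML (LC J 0) I M) :
    Formal2.FormalCohBijective A I M 0 (LocCoh.puncturedOpen A J) :=
  (formalCohBijective_iff I M 0 _).2 (fBij_HP_zero h0 h1 hml)

theorem formalCohBijective_punct_pos (i : ℕ) (hi : 1 ≤ i) (h : FBij (LC J (i + 1)) I M) :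
    Formal2.FormalCohBijective A I M i (LocCoh.puncturedOpen A J) :=
  (formalCohBijective_iff I M i _).2 (h.of_iso (punctIso J i hi).symm)

end FormalPunctLib

end
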