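import Groth.Agent.LcAlgLib.GenPrime
import Groth.Agent.DCompLib.Completion
import Groth.Prelude.Def_Formal2

/-! Completed local cohomology agrees with local cohomology after shrinking the ideal. -/

set_option autoImplicit false
set_option linter.style.haveILetI false
set_option maxHeartbeats 1000000
universe u

open CategoryTheory
open Groth.Agent
attribute [local instance] HasDerivedCategory.standard

noncomputable section

namespace FormalPunctLib

variable {A : Type u} [CommRing A] [IsNoetherianRing A]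

/-- Below a smaller ideal, derived completion does not change low degree local cohomology. -/
theorem exists_ideal_completion (I : Ideal A) [IsAdicComplete I A] [DRing.HasDerivedCompletion I]
    {ω : Dual.D A} (hω : Dual.IsDualizing A ω) (J : Ideal A) (M : Type u) [AddCommGroup M] [Module A M]
    [Module.Finite A M] (s d : ℕ) (h3 : LocCoh.CdLE A I d)
    (h4 : ∀ p : PrimeSpectrum A, ¬ I ≤ p.asIdeal → (∃ r : PrimeSpectrum A, p ≤ r ∧ I ≤ r.asIdeal ∧ ¬ J ≤ r.asIdeal) →
      ∀ q : PrimeSpectrum A, p ≤ q → J ≤ q.asIdeal →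
        (s : ℕ∞) ≤ LocCoh.depth (Localization.AtPrime p.asIdeal) (LocalizedModule p.asIdeal.primeCompl M) ∨
          (((d + s : ℕ) : ℕ∞) : WithBot ℕ∞) <
            ((LocCoh.depth (Localization.AtPrime p.asIdeal) (LocalizedModule p.asIdeal.primeCompl M) : ℕ∞) : WithBot ℕ∞) +
              Formal2.dimBetween A p.asIdeal q.asIdeal) :
    ∃ J₀ : Ideal A, J₀ ≤ J ∧ PrimeSpectrum.zeroLocus ((J₀ : Ideal A) : Set A) ∩ PrimeSpectrum.zeroLocus ((I : Ideal A) : Set A) = PrimeSpectrum.zeroLocus ((J : Ideal A) : Set A) ∩ PrimeSpectrum.zeroLocus ((I : Ideal A) : Set A) ∧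
      ∀ (J' : Ideal A) [DRing.HasRgammaI J'], J' ≤ J₀ → PrimeSpectrum.zeroLocus ((J' : Ideal A) : Set A) ∩ PrimeSpectrum.zeroLocus ((I : Ideal A) : Set A) = PrimeSpectrum.zeroLocus ((J : Ideal A) : Set A) ∩ PrimeSpectrum.zeroLocus ((I : Ideal A) : Set A) →
        ∀ i : ℤ, i ≤ s → Function.Bijective ((DerivedCategory.homologyFunctor (ModuleCat.{u} A) i).map (DRing.toDerivedCompletion I ((DRing.RgammaI J').obj (Dual.inD A M)))).hom := by
  haveI : DRing.HasRgammaI J :=
    DerLib.KInjDerived.hasRightDerivedFunctor _ (DerLib.KInjDerived.enoughKInj _)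
  let Y := (DRingLib.cF I).obj ((DRing.RgammaI J).obj (Dual.inD A M))
  set L := LcAlgLib.torsIdeal (s : ℤ) Y with hL
  have hV : ∀ r : PrimeSpectrum A, L ≤ r.asIdeal → I ≤ r.asIdeal → J ≤ r.asIdeal := by
    intro r hr hIr
    by_contra hJr
    obtain ⟨P, hP, hPr⟩ := Ideal.exists_minimalPrimes_le hr
    haveI := hP.1.1
    let S := (Ideal.finite_minimalPrimes_of_isNoetherianRing A L).toFinset.erase P
    -- elements outside `P` lying in all the other minimal primes
    have hK : ∀ K : Ideal A, ¬ K ≤ P → ∃ g, g ∈ K ∧ g ∉ P ∧ ∀ y ∈ P, g * y ∈ L := fun K hK => by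
      have hSK : ¬ S.inf id ⊓ K ≤ P := fun h => by
        rcases (Ideal.IsPrime.inf_le hP.1.1).1 h with h | h
        · obtain ⟨Q, hQ, hQP⟩ := (Ideal.IsPrime.inf_le' hP.1.1).1 h
          obtain ⟨hne, hQmem⟩ := Finset.mem_erase.1 hQ
          rw [Set.Finite.mem_toFinset] at hQmem
          exact hne (le_antisymm hQP (hP.2 hQmem.1 hQP))
        · exact hK h
      obtain ⟨g, hg, hgP⟩ := Set.not_subset.1 hSK
      refine ⟨g, hg.2, hgP, fun y hy => LcAlgLib.radical_torsIdeal (s : ℤ) Y ?_⟩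
      show g * y ∈ L.radical
      rw [← Ideal.sInf_minimalPrimes, Submodule.mem_sInf]
      intro Q hQ
      by_cases hQP : Q = P
      · subst hQP
        exact Ideal.mul_mem_left Q g hy
      · exact Ideal.mul_mem_right y Q
          ((Finset.inf_le (f := id) (Finset.mem_erase.2 ⟨hQP, (Set.Finite.mem_toFinset _).2 hQ⟩) :
            S.inf id ≤ Q) hg.1)
    have hJP : ¬ J ≤ P := fun h => hJr (h.trans hPr)
    by_cases hPI : I ≤ P
    · obtain ⟨g, hgJ, hgP, hgy⟩ := hK J hJP
      refine hgP (hP.1.2 ?_)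
      obtain ⟨l, hl⟩ := DRingLib.exists_list_span' I
      haveI : DRing.HasRgammaI I :=
        DerLib.KInjDerived.hasRightDerivedFunctor _ (DerLib.KInjDerived.enoughKInj _)
      haveI : DRing.HasRgammaI (J ⊔ I) :=
        DerLib.KInjDerived.hasRightDerivedFunctor _ (DerLib.KInjDerived.enoughKInj _)
      obtain ⟨e1⟩ := (Groth.Agent.S1814.result A I ((DRing.RgammaI J).obj (Dual.inD A M))).1
      obtain ⟨e2⟩ := Groth.Agent.S1816.result A J I (Dual.inD A M)
      refine (LcAlgLib.mem_torsIdeal_iff (s : ℤ) Y g).2 fun i hi =>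
        LcAlgLib.isTorsM_of_mul l g (s : ℤ) (DRingLib.isCoref_RgammaIε l I hl Y) (fun j => ?_)
          (fun a ha j hj => (LcAlgLib.mem_torsIdeal_iff (s : ℤ) Y _).1
            (hgy a (hPI (hl ▸ Ideal.subset_span ha))) j hj) i hi
      exact DRingLib.isTorsM_of_surjective ((DRingLib.hF A j).mapIso (e1 ≪≫ e2)).inv
        (((DRingLib.hF A j).mapIso (e1 ≪≫ e2)).symm.toLinearEquiv.surjective)
        (LcAlgLib.isTorsM_RgammaI _ _ (Ideal.mem_sup_left hgJ) j)
    · obtain ⟨g, -, hgP, hgy⟩ := hK ⊤ fun h => hP.1.1.ne_top (top_le_iff.1 h)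
      obtain ⟨c, hc, hct⟩ := LcAlgLib.Gen.tors_induction I J hω d ⟨P, hP.1.1⟩ r hPr hIr hJr h3 s M (by
          intro Q q hQP hQq hJq hIq
          rcases h4 Q (fun h => hPI (h.trans hQP)) ⟨r, le_trans hQP hPr, hIr, hJr⟩ q hQq hJq with h | h
          · exact Or.inl ((DualCxLib.le_depth_iff_van hω Q s M).1 h)
          · refine Or.inr fun δ hδ => (DualCxLib.le_depth_iff_van hω Q (δ + 1) M).1 ?_ δ (Nat.lt_succ_self δ)
            rw [LcFinLib.dimBetween_eq_krullDim_Icc, LcFinLib.krullDim_Icc_eq hω hQq, ← WithBot.coe_add,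
              WithBot.coe_lt_coe] at h
            set D := LocCoh.depth (Localization.AtPrime Q.asIdeal) (LocalizedModule Q.asIdeal.primeCompl M)
            revert h
            generalize D = e
            induction e using ENat.recTopCoe with
            | top => exact fun _ => le_top
            | coe e =>
              intro h
              rw [← Nat.cast_add, Nat.cast_lt] at h
              rw [Nat.cast_le]
              omega)
        fun y hy => ⟨g, hgP, fun i hi => (LcAlgLib.mem_torsIdeal_iff (s : ℤ) Y _).1 (hgy y hy) i hi⟩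
      exact hc (hP.1.2 ((LcAlgLib.mem_torsIdeal_iff (s : ℤ) Y c).2 hct))
  refine ⟨L ⊓ J, inf_le_right, ?_, ?_⟩
  · ext r
    refine ⟨fun ⟨h1, h2⟩ => ⟨?_, h2⟩, fun ⟨h1, h2⟩ => ⟨fun x hx => h1 hx.2, h2⟩⟩
    rcases (Ideal.IsPrime.inf_le r.isPrime).1 h1 with h | h
    · exact hV r h h2
    · exact h
  intro J' _ hJ' hV' i hi
  have hJJ : J ≤ (J' ⊔ I).radical := by
    rw [Ideal.radical_eq_sInf]
    refine le_sInf fun q ⟨hq, hqp⟩ => ?_
    exact ((Set.ext_iff.1 hV' ⟨q, hqp⟩).1 ⟨le_sup_left.trans hq, le_sup_right.trans hq⟩).1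
  obtain ⟨e⟩ := LcAlgLib.nonempty_completion_iso (I := I) J' J
    ((sup_le_sup_right (hJ'.trans inf_le_right) I).trans Ideal.le_radical)
    (sup_le hJJ (le_sup_right.trans Ideal.le_radical)) (Dual.inD A M)
  obtain ⟨l, hl⟩ := DRingLib.exists_list_span' J'
  refine LcAlgLib.bijective_hn_unit l (DRingLib.isCoref_RgammaIε l J' hl (Dual.inD A M))
    (DRingLib.isDerivedComplete_inD (I := I) M) (s : ℤ) (fun g hg j hj => ?_) i hi
  refine DRingLib.isTorsM_of_surjective ((DRingLib.hF A j).mapIso e).inv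
    (((DRingLib.hF A j).mapIso e).symm.toLinearEquiv.surjective) ?_
  exact (LcAlgLib.mem_torsIdeal_iff (s : ℤ) Y g).1 (hJ' (hl ▸ Ideal.subset_span hg)).1 j hj

end FormalPunctLib

end
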