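import Groth.Agent.FormalPunctLib.Extend

/-! Connectedness of punctured formal neighbourhoods. -/

set_option autoImplicit false
set_option linter.style.haveILetI false
set_option maxHeartbeats 1000000
universe u

noncomputable section

open CategoryTheory AlgebraicGeometry TopologicalSpace Opposite
open Groth.Agent

attribute [local instance] HasDerivedCategory.standard

namespace FormalPunctLib

section Torsion

variable {A : Type u} [CommRing A] [IsNoetherianRing A] (J : Ideal A) (M : ModuleCat.{u} A)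

theorem pto_eq_zero_iff (m : M) : pto J M m = 0 ↔ m ∈ DRing.torsionSub J M := by
  refine ⟨fun h => ker_pto_le J M (LinearMap.mem_ker.2 h), fun ⟨k, hk⟩ => ?_⟩
  refine eq_zero_of_pow_smul J _ fun f hf => ⟨k, ?_⟩
  rw [← map_smul, hk _ (Ideal.pow_mem_pow hf k), map_zero]

theorem exists_pow_smul_eq_pto {f : A} (hf : f ∈ J) (z : PSec J M) :
    ∃ (k : ℕ) (m : M), f ^ k • z = pto J M m := by
  obtain ⟨k, hk⟩ := coker_pto J M (Submodule.Quotient.mk z)
  have h1 := hk (f ^ k) (Ideal.pow_mem_pow hf k)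
  rw [← Submodule.Quotient.mk_smul, Submodule.Quotient.mk_eq_zero] at h1
  obtain ⟨m, hm⟩ := h1
  exact ⟨k, m, hm.symm⟩

end Torsion

variable {A : Type u} [CommRing A] [IsNoetherianRing A] {J 𝔞 : Ideal A}

theorem pres_pmap (h : J ≤ 𝔞) {M N : ModuleCat.{u} A} (φ : M ⟶ N) (s : PSec 𝔞 M) :
    pres h N (pmap 𝔞 φ s) = pmap J φ (pres h M s) :=
  (ConcreteCategory.congr_hom ((modulesSpecToSheaf.map (tilde.map (R := CommRingCat.of A) φ)).hom.naturality
    (homOfLE (compl_le h)).op) s).symm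

variable (I K₁ K₂ : Ideal A) (M : Type u) [AddCommGroup M] [Module A M] [Module.Finite A M]

/-- A section equal to the given element away from `V(K₂)` and to zero away from `V(K₁)`. -/
def IsInd (𝔞 : Ideal A) (N : ModuleCat.{u} A) (c : N) (y : PSec 𝔞 N) : Prop :=
  ∃ t : ℕ, (∀ a ∈ K₁ ^ t, a • y = 0) ∧ ∀ a ∈ K₂ ^ t, a • (y - pto 𝔞 N c) = 0

variable {K₁ K₂}

theorem IsInd.map {N N' : ModuleCat.{u} A} {c : N} {y : PSec 𝔞 N} (h : IsInd K₁ K₂ 𝔞 N c y) (φ : N ⟶ N') :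
    IsInd K₁ K₂ 𝔞 N' (φ.hom c) (pmap 𝔞 φ y) := by
  obtain ⟨t, h1, h2⟩ := h
  refine ⟨t, fun a ha => by rw [← map_smul, h1 a ha, map_zero], fun a ha => ?_⟩
  rw [← pmap_pto, ← map_sub, ← map_smul, h2 a ha, map_zero]

theorem IsInd.unique (hK : 𝔞 ≤ (K₁ ⊔ K₂).radical) {N : ModuleCat.{u} A} {c : N} {y y' : PSec 𝔞 N}
    (h : IsInd K₁ K₂ 𝔞 N c y) (h' : IsInd K₁ K₂ 𝔞 N c y') : y = y' := by
  obtain ⟨t, h1, h2⟩ := h
  obtain ⟨t', h1', h2'⟩ := h'
  have hrad : 𝔞 ≤ (K₁ ^ (t + t') ⊔ K₂ ^ (t + t')).radical := by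
    refine hK.trans (Ideal.radical_le_radical_iff.2 ?_)
    rw [Ideal.radical_eq_sInf]
    refine le_sInf fun P ⟨hP, hPp⟩ => sup_le (Ideal.IsPrime.le_of_pow_le (le_sup_left.trans hP))
      (Ideal.IsPrime.le_of_pow_le (le_sup_right.trans hP))
  refine sub_eq_zero.1 (eq_zero_of_pow_smul 𝔞 _ fun f hf => ?_)
  obtain ⟨k, hk⟩ := hrad hf
  obtain ⟨p, hp, q, hq, hpq⟩ := Submodule.mem_sup.1 hk
  refine ⟨k, ?_⟩
  have hp0 : p • (y - y') = 0 := by
    rw [smul_sub, h1 p (Ideal.pow_le_pow_right (Nat.le_add_right t t') hp),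
      h1' p (Ideal.pow_le_pow_right (Nat.le_add_left t' t) hp), sub_zero]
  have hq0 : q • (y - y') = 0 := by
    rw [show y - y' = (y - pto 𝔞 N c) - (y' - pto 𝔞 N c) by abel, smul_sub,
      h2 q (Ideal.pow_le_pow_right (Nat.le_add_right t t') hq),
      h2' q (Ideal.pow_le_pow_right (Nat.le_add_left t' t) hq), sub_zero]
  rw [← hpq, add_smul, hp0, hq0, add_zero]

omit [Module.Finite A M] in
theorem exists_isInd (hK : 𝔞 ≤ (K₁ ⊔ K₂).radical) (hprod : 𝔞 * (K₁ * K₂) ≤ I.radical) (n : ℕ) (c : qn I M n) :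
    ∃ y : PSec 𝔞 (qn I M n), IsInd K₁ K₂ 𝔞 (qn I M n) c y := by
  obtain ⟨t, ht⟩ := Ideal.exists_pow_le_of_le_radical_of_fg
    (I := 𝔞 * (K₁ * K₂)) (J := I ^ (n + 1)) (by rwa [Ideal.radical_pow I (Nat.succ_ne_zero n)])
    (IsNoetherian.noetherian _)
  let P := K₁ ^ t
  let Q := K₂ ^ t
  have hrad : 𝔞 ≤ (P ⊔ Q).radical := by
    refine hK.trans (Ideal.radical_le_radical_iff.2 ?_)
    rw [Ideal.radical_eq_sInf]
    refine le_sInf fun R ⟨hR, hRp⟩ => sup_le (Ideal.IsPrime.le_of_pow_le (le_sup_left.trans hR))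
      (Ideal.IsPrime.le_of_pow_le (le_sup_right.trans hR))
  obtain ⟨L, hL⟩ := Ideal.exists_pow_le_of_le_radical_of_fg hrad (IsNoetherian.noetherian 𝔞)
  let C := DRing.torsionSub 𝔞 (qn I M n)
  let π : qn I M n →ₗ[A] qn I M n ⧸ C := C.mkQ
  have hkill : ∀ x ∈ P * Q, π (x • c) = 0 := by
    intro x hx
    refine (Submodule.Quotient.mk_eq_zero _).2 ⟨t, fun a ha => ?_⟩
    have hmem : a * x ∈ I ^ (n + 1) := by
      refine ht ?_
      rw [mul_pow, mul_pow]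
      exact Ideal.mul_mem_mul ha hx
    rw [smul_smul]
    obtain ⟨m, rfl⟩ := Submodule.Quotient.mk_surjective _ c
    rw [← Submodule.Quotient.mk_smul, Submodule.Quotient.mk_eq_zero]
    exact Submodule.smul_mem_smul hmem Submodule.mem_top
  have hinter : ∀ x ∈ P ⊓ Q, π (x • c) = 0 := by
    intro x hx
    have hP' : x • c ∈ C := by
      have hsup : ∀ b ∈ P ⊔ Q, π ((b * x) • c) = 0 := by
        intro b hb
        obtain ⟨p, hp, q, hq, rfl⟩ := Submodule.mem_sup.1 hb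
        rw [add_mul, add_smul, map_add, hkill _ (Ideal.mul_mem_mul hp hx.2),
          hkill _ (mul_comm q x ▸ Ideal.mul_mem_mul hx.1 hq), add_zero]
      obtain ⟨k, hk⟩ := IdealTransLib.exists_pow_smul_range (I := 𝔞)
        ((LinearMap.toSpanSingleton A (qn I M n) (x • c)) ∘ₗ (𝔞 ^ L).subtype) ⊥ (fun b => by
          obtain ⟨k, hk⟩ := (Submodule.Quotient.mk_eq_zero _).1 (hsup b (hL b.2))
          refine ⟨k, fun a ha => (Submodule.mem_bot A).2 ?_⟩
          have h0 := hk a ha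
          rw [mul_smul] at h0
          exact h0)
      refine ⟨k + L, fun a ha => ?_⟩
      rw [pow_add] at ha
      induction ha using Submodule.mul_induction_on' with
      | mem_mul_mem b hb e he =>
        rw [mul_smul]
        exact (Submodule.mem_bot A).1 (hk ⟨e, he⟩ b hb)
      | add b _ e _ hb he => rw [add_smul, hb, he, add_zero]
    exact (Submodule.Quotient.mk_eq_zero _).2 hP'
  let s : ↥P × ↥Q →ₗ[A] ↥(P ⊔ Q) :=
    LinearMap.coprod (Submodule.inclusion le_sup_left) (Submodule.inclusion le_sup_right)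
  have hs : Function.Surjective s := fun ⟨b, hb⟩ => by
    obtain ⟨p, hp, q, hq, rfl⟩ := Submodule.mem_sup.1 hb
    exact ⟨(⟨p, hp⟩, ⟨q, hq⟩), rfl⟩
  let ψ : ↥P × ↥Q →ₗ[A] qn I M n ⧸ C :=
    π ∘ₗ LinearMap.toSpanSingleton A (qn I M n) c ∘ₗ Q.subtype ∘ₗ LinearMap.snd A ↥P ↥Q
  have hψ : LinearMap.ker s ≤ LinearMap.ker ψ := by
    rintro ⟨⟨p, hp⟩, ⟨q, hq⟩⟩ hpq
    have h0 : p + q = 0 := congrArg Subtype.val hpq
    refine LinearMap.mem_ker.2 (hinter q ⟨?_, hq⟩)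
    rw [eq_neg_of_add_eq_zero_right h0]
    exact P.neg_mem hp
  let φ : ↥(𝔞 ^ L) →ₗ[A] qn I M n ⧸ C :=
    (Submodule.liftQ _ ψ hψ ∘ₗ (LinearMap.quotKerEquivOfSurjective s hs).symm.toLinearMap) ∘ₗ
      Submodule.inclusion hL
  have hφ : ∀ (b : ↥(𝔞 ^ L)) (p q : A) (hp : p ∈ P) (hq : q ∈ Q), p + q = b.1 → φ b = π (q • c) := by
    intro b p q hp hq hb
    show Submodule.liftQ _ ψ hψ ((LinearMap.quotKerEquivOfSurjective s hs).symm (Submodule.inclusion hL b)) = _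
    rw [(LinearEquiv.symm_apply_eq _).2
      (show Submodule.inclusion hL b = LinearMap.quotKerEquivOfSurjective s hs
        (Submodule.Quotient.mk (⟨p, hp⟩, ⟨q, hq⟩)) from Subtype.ext hb.symm)]
    rfl
  let ξ : LocCoh.DT 𝔞 (qn I M n ⧸ C) := IdealTransLib.mk L φ
  have hD : Function.Bijective (IdealTransLib.Dmap 𝔞 π) :=
    IdealTransLib.Dmap_bijective (Submodule.ker_mkQ C).le
      (isPowerTorsion_coker_of_surjective 𝔞 (Submodule.mkQ_surjective _))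
  obtain ⟨η, hη⟩ := hD.2 ξ
  obtain ⟨y, hy⟩ := θ_surjective 𝔞 (qn I M n) η
  refine ⟨y, t, fun a ha => θ_injective 𝔞 _ (hD.1 ?_), fun a ha => θ_injective 𝔞 _ (hD.1 ?_)⟩
  · rw [map_smul, hy, map_smul, hη, map_zero, map_zero]
    show a • IdealTransLib.mk L φ = 0
    rw [← map_smul]
    refine IdealTransLib.mk_eq_zero_iff.2 ⟨L, le_rfl, LinearMap.ext fun b => ?_⟩
    obtain ⟨p, hp, q, hq, hpq⟩ := Submodule.mem_sup.1 (hL b.2)
    show a • φ ⟨b.1, _⟩ = 0
    rw [hφ ⟨b.1, b.2⟩ p q hp hq hpq, ← map_smul, smul_smul]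
    exact hkill _ (Ideal.mul_mem_mul ha hq)
  · rw [map_smul, map_sub, hy, θ_pto, map_smul, map_sub, hη, IdealTransLib.Dmap_toDT, map_zero, map_zero,
      IdealTransLib.toDT_eq L]
    show a • (IdealTransLib.mk L φ - IdealTransLib.mk L (IdealTransLib.smulFun 𝔞 L (π c))) = 0
    rw [← map_sub, ← map_smul]
    refine IdealTransLib.mk_eq_zero_iff.2 ⟨L, le_rfl, LinearMap.ext fun b => ?_⟩
    obtain ⟨p, hp, q, hq, hpq⟩ := Submodule.mem_sup.1 (hL b.2)
    show a • (φ ⟨b.1, _⟩ - b.1 • π c) = 0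
    rw [hφ ⟨b.1, b.2⟩ p q hp hq hpq, ← map_smul π b.1, ← map_sub, ← hpq, add_smul,
      sub_add_cancel_right, ← map_smul, smul_neg, smul_smul, ← neg_smul, neg_mul_eq_mul_neg]
    exact hkill _ (mul_comm (-p) a ▸ Ideal.mul_mem_mul (P.neg_mem hp) ha)

/-- Vanishing near a point of `V(I)` from vanishing in all quotients. -/
theorem exists_smul_eq_zero (p : PrimeSpectrum A) (hI : I ≤ p.asIdeal) (hJ : ¬ J ≤ p.asIdeal)
    (z : PSec J (ModuleCat.of A M)) (h : ∀ n, ∃ g ∉ p.asIdeal, g • pmap J (qπ I M n) z = 0) :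
    ∃ g ∉ p.asIdeal, g • z = 0 := by
  obtain ⟨f, hf, hfp⟩ := Set.not_subset.1 hJ
  obtain ⟨k, m, hm⟩ := exists_pow_smul_eq_pto J (ModuleCat.of A M) hf z
  have hfk : ∀ j, f ^ j ∉ p.asIdeal := fun j hj => hfp (p.isPrime.mem_of_pow_mem j hj)
  let ι := LocalizedModule.mkLinearMap p.asIdeal.primeCompl M
  let B := Localization.AtPrime p.asIdeal
  haveI : IsNoetherianRing B := IsLocalization.isNoetherianRing p.asIdeal.primeCompl _ inferInstance
  haveI : Module.Finite B (LocalizedModule p.asIdeal.primeCompl M) :=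
    Module.Finite.of_isLocalizedModule p.asIdeal.primeCompl ι
  have hmem : ∀ n, ι m ∈ (I.map (algebraMap A B)) ^ (n + 1) • (⊤ : Submodule B (LocalizedModule p.asIdeal.primeCompl M)) := by
    intro n
    obtain ⟨g, hg, hgz⟩ := h n
    have h1 : pto J (qn I M n) (g • (qπ I M n).hom m) = 0 := by
      rw [map_smul, ← pmap_pto, ← hm, map_smul, smul_comm, hgz, smul_zero]
    obtain ⟨j, hj⟩ := (pto_eq_zero_iff J _ _).1 h1
    have h2 := hj _ (Ideal.pow_mem_pow hf j)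
    rw [smul_smul] at h2
    have h3 : (f ^ j * g) • m ∈ (I ^ (n + 1) • ⊤ : Submodule A M) := by
      rw [← Submodule.Quotient.mk_eq_zero, Submodule.Quotient.mk_smul]
      exact h2
    have hs : f ^ j * g ∉ p.asIdeal := fun hc => (p.isPrime.mem_or_mem hc).elim (hfk j) hg
    have h4 : ι ((f ^ j * g) • m) ∈
        (I.map (algebraMap A B)) ^ (n + 1) • (⊤ : Submodule B (LocalizedModule p.asIdeal.primeCompl M)) := by
      refine Submodule.smul_induction_on h3 (fun a ha v _ => ?_) (fun v w hv hw => by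
        rw [map_add]; exact Submodule.add_mem _ hv hw)
      rw [map_smul, ← IsScalarTower.algebraMap_smul B a (ι v), ← Ideal.map_pow]
      exact Submodule.smul_mem_smul (Ideal.mem_map_of_mem _ ha) Submodule.mem_top
    rw [map_smul, ← IsScalarTower.algebraMap_smul B (f ^ j * g) (ι m)] at h4
    exact (Submodule.smul_mem_iff_of_isUnit _
      (IsLocalization.map_units B (⟨f ^ j * g, hs⟩ : p.asIdeal.primeCompl))).1 h4
  have hne : I.map (algebraMap A B) ≠ ⊤ := by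
    refine ne_top_of_le_ne_top (IsLocalRing.maximalIdeal.isMaximal B).ne_top ?_
    rw [← Localization.AtPrime.map_eq_maximalIdeal]
    exact Ideal.map_mono hI
  have h0 : ι m = 0 := by
    rw [← Submodule.mem_bot B, ← Ideal.iInf_pow_smul_eq_bot_of_isLocalRing (M := LocalizedModule p.asIdeal.primeCompl M) _ hne,
      Submodule.mem_iInf]
    intro n
    cases n with
    | zero => simp
    | succ n => exact hmem n
  obtain ⟨s, hs⟩ := (IsLocalizedModule.eq_zero_iff p.asIdeal.primeCompl ι).1 h0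
  refine ⟨s.1 * f ^ k, fun hc => (p.isPrime.mem_or_mem hc).elim s.2 (hfk k), ?_⟩
  rw [mul_smul, hm, ← map_smul]
  exact (congrArg (pto J (ModuleCat.of A M)) hs).trans (map_zero _)

omit [IsNoetherianRing A] in
theorem exists_eq_zeroLocus (u : Set (PrimeSpectrum A)) (hu : IsOpen u) :
    ∃ L : Ideal A, ∀ q : PrimeSpectrum A, L ≤ q.asIdeal ↔ q ∉ u := by
  obtain ⟨L, hL⟩ := (PrimeSpectrum.isClosed_iff_zeroLocus_ideal uᶜ).1 hu.isClosed_compl
  exact ⟨L, fun q => (Set.ext_iff.1 hL q).symm⟩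

omit [IsNoetherianRing A] in
theorem isOpen_killed (J : Ideal A) {N : ModuleCat.{u} A} (z : PSec J N) :
    IsOpen {p : PrimeSpectrum A | ¬ J ≤ p.asIdeal ∧ ∃ g ∉ p.asIdeal, g • z = 0} := by
  have : {p : PrimeSpectrum A | ¬ J ≤ p.asIdeal ∧ ∃ g ∉ p.asIdeal, g • z = 0} =
      (PrimeSpectrum.zeroLocus (J : Set A))ᶜ ∩
        (PrimeSpectrum.zeroLocus {g : A | g • z = 0})ᶜ := by
    ext p
    refine and_congr Iff.rfl ?_
    simp only [Set.mem_compl_iff, PrimeSpectrum.mem_zeroLocus, Set.not_subset, Set.mem_setOf_eq,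
      SetLike.mem_coe]
    exact ⟨fun ⟨g, hg, h⟩ => ⟨g, h, hg⟩, fun ⟨g, h, hg⟩ => ⟨g, hg, h⟩⟩
  rw [this]
  exact (PrimeSpectrum.isClosed_zeroLocus _).isOpen_compl.inter (PrimeSpectrum.isClosed_zeroLocus _).isOpen_compl

/-- Connectedness from formal sections. -/
theorem isPreconnected_of_colim (hI : I ≤ 𝔞) (c : M)
    (hc : ∀ (p : PrimeSpectrum A) (s : A), s ∉ p.asIdeal → s • c ≠ 0)
    (hcol : Formal2.FormalCohColimBijective A I M 0 (LocCoh.puncturedOpen A 𝔞))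
    (h₃ : ∀ V : Set (PrimeSpectrum A), IsOpen V → V.Nonempty →
      PrimeSpectrum.zeroLocus (I : Set A) \ PrimeSpectrum.zeroLocus (𝔞 : Set A) ⊆ V → _root_.IsConnected V) :
    _root_.IsPreconnected (PrimeSpectrum.zeroLocus (I : Set A) \ PrimeSpectrum.zeroLocus (𝔞 : Set A)) := by
  intro u v hu hv huv hWu hWv
  by_contra hempty
  obtain ⟨Lu, hLu⟩ := exists_eq_zeroLocus u hu
  obtain ⟨Lv, hLv⟩ := exists_eq_zeroLocus v hv
  let K₁ := Lv ⊔ I
  let K₂ := Lu ⊔ I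
  have hW : ∀ q : PrimeSpectrum A, I ≤ q.asIdeal → ¬ 𝔞 ≤ q.asIdeal → (q ∈ u ∨ q ∈ v) ∧ ¬ (q ∈ u ∧ q ∈ v) :=
    fun q hq hq' => ⟨huv ⟨hq, hq'⟩, fun h => hempty ⟨q, ⟨hq, hq'⟩, h⟩⟩
  have hK : 𝔞 ≤ (K₁ ⊔ K₂).radical := by
    rw [Ideal.radical_eq_sInf]
    refine le_sInf fun q ⟨hq, hqp⟩ => ?_
    by_contra hq'
    have h1 : Lv ≤ q := le_sup_left.trans (le_sup_left.trans hq)
    have h2 : Lu ≤ q := le_sup_left.trans (le_sup_right.trans hq)
    rcases (hW ⟨q, hqp⟩ (le_sup_right.trans (le_sup_left.trans hq)) hq').1 with h | h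
    · exact (hLu ⟨q, hqp⟩).1 h2 h
    · exact (hLv ⟨q, hqp⟩).1 h1 h
  have hprod : 𝔞 * (K₁ * K₂) ≤ I.radical := by
    rw [Ideal.radical_eq_sInf]
    refine le_sInf fun q ⟨hq, hqp⟩ => ?_
    by_cases hq' : 𝔞 ≤ q
    · exact Ideal.mul_le_left.trans hq'
    obtain ⟨-, hn⟩ := hW ⟨q, hqp⟩ hq hq'
    refine Ideal.mul_le_right.trans ?_
    by_cases hqv : (⟨q, hqp⟩ : PrimeSpectrum A) ∈ v
    · exact Ideal.mul_le_right.trans (sup_le ((hLu ⟨q, hqp⟩).2 fun h => hn ⟨h, hqv⟩) hq)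
    · exact Ideal.mul_le_left.trans (sup_le ((hLv ⟨q, hqp⟩).2 hqv) hq)
  choose y hy using fun n => exists_isInd I M hK hprod n ((qπ I M n).hom c)
  have hcomp : ∀ n, pmap 𝔞 (qt I M n) (y (n + 1)) = y n := fun n => by
    refine IsInd.unique hK ?_ (hy n)
    exact qt_apply I M n c ▸ (hy (n + 1)).map (qt I M n)
  obtain ⟨V, hV, x₀, hx₀⟩ := hcol.2 (fun n => (secEquiv 𝔞 (qn I M n)).symm (y n)) fun n => by
    refine (secEquiv 𝔞 (qn I M n)).injective ?_
    refine (secEquiv_natural 𝔞 (qt I M n) _).trans ?_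
    rw [AddEquiv.apply_symm_apply, AddEquiv.apply_symm_apply]
    exact hcomp n
  obtain ⟨J, hJ, hJI, hJV, hJa⟩ := exists_admissible_punct hI le_rfl (fun q h _ => h) V hV
  let x : PSec J (ModuleCat.of A M) := secEquiv J (ModuleCat.of A M) (Formal2.HVres A M 0 hJV x₀)
  have hx : ∀ n, pmap J (qπ I M n) x = pres hJ (qn I M n) (y n) := fun n => by
    refine (secEquiv_natural J (qπ I M n) _).symm.trans ?_
    refine (congrArg (secEquiv J (qn I M n)) ((HVres_HVmap (Formal2.quotPowπ A I M n) 0 hJV x₀).symm)).trans ?_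
    rw [← hx₀ n, HVres_res 0 hV.1 hJV]
    exact (QCohLib.h0_res (F := (shF A).obj (qn I M n)) (homOfLE hJa.1) _).trans
      (congrArg (pres hJ (qn I M n)) ((secEquiv 𝔞 (qn I M n)).apply_symm_apply (y n)))
  -- the two pieces
  let O₁ := {p : PrimeSpectrum A | ¬ J ≤ p.asIdeal ∧ ∃ g ∉ p.asIdeal, g • (x - pto J (ModuleCat.of A M) c) = 0}
  let O₂ := {p : PrimeSpectrum A | ¬ J ≤ p.asIdeal ∧ ∃ g ∉ p.asIdeal, g • x = 0}
  have hdisj : ∀ p, p ∈ O₁ → p ∈ O₂ → False := by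
    rintro p ⟨hJp, g, hg, hg1⟩ ⟨-, g', hg', hg2⟩
    obtain ⟨f, hf, hfp⟩ := Set.not_subset.1 hJp
    have h0 : pto J (ModuleCat.of A M) ((g' * g) • c) = 0 := by
      have e : (g' * g) • pto J (ModuleCat.of A M) c =
          g • (g' • x) - g' • (g • (x - pto J (ModuleCat.of A M) c)) := by
        rw [smul_sub g, smul_sub g', smul_comm g g' x, mul_smul]
        abel
      rw [map_smul, e, hg1, hg2, smul_zero, smul_zero, sub_zero]
    obtain ⟨k, hk⟩ := (pto_eq_zero_iff J _ _).1 h0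
    refine hc p (f ^ k * (g' * g)) ?_ ((mul_smul _ _ _).trans (hk _ (Ideal.pow_mem_pow hf k)))
    exact fun h => (p.isPrime.mem_or_mem h).elim (fun h => hfp (p.isPrime.mem_of_pow_mem k h))
      fun h => (p.isPrime.mem_or_mem h).elim hg' hg
  have hJW : ∀ p : PrimeSpectrum A, I ≤ p.asIdeal → ¬ 𝔞 ≤ p.asIdeal → ¬ J ≤ p.asIdeal :=
    fun p hp hp' h => hp' (hJI p h hp)
  have hmem₁ : ∀ p : PrimeSpectrum A, I ≤ p.asIdeal → ¬ 𝔞 ≤ p.asIdeal → p ∈ u → p ∈ O₁ := by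
    intro p hp hp' hpu
    refine ⟨hJW p hp hp', exists_smul_eq_zero I M p hp (hJW p hp hp') _ fun n => ?_⟩
    obtain ⟨g, hgK, hgp⟩ := Set.not_subset.1 (fun h : K₂ ≤ p.asIdeal => (hLu p).1 (le_sup_left.trans h) hpu)
    obtain ⟨t, -, ht⟩ := hy n
    refine ⟨g ^ t, fun h => hgp (p.isPrime.mem_of_pow_mem t h), ?_⟩
    rw [map_sub, hx, pmap_pto, ← pres_pto hJ, ← map_sub, ← map_smul]
    exact (congrArg (pres hJ (qn I M n)) (ht _ (Ideal.pow_mem_pow hgK t))).trans (map_zero _)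
  have hmem₂ : ∀ p : PrimeSpectrum A, I ≤ p.asIdeal → ¬ 𝔞 ≤ p.asIdeal → p ∈ v → p ∈ O₂ := by
    intro p hp hp' hpv
    refine ⟨hJW p hp hp', exists_smul_eq_zero I M p hp (hJW p hp hp') _ fun n => ?_⟩
    obtain ⟨g, hgK, hgp⟩ := Set.not_subset.1 (fun h : K₁ ≤ p.asIdeal => (hLv p).1 (le_sup_left.trans h) hpv)
    obtain ⟨t, ht, -⟩ := hy n
    refine ⟨g ^ t, fun h => hgp (p.isPrime.mem_of_pow_mem t h), ?_⟩
    rw [hx, ← map_smul]
    exact (congrArg (pres hJ (qn I M n)) (ht _ (Ideal.pow_mem_pow hgK t))).trans (map_zero _)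
  obtain ⟨p₁, hp₁, hp₁u⟩ := hWu
  obtain ⟨p₂, hp₂, hp₂v⟩ := hWv
  have h1 : p₁ ∈ O₁ := hmem₁ p₁ hp₁.1 hp₁.2 hp₁u
  have h2 : p₂ ∈ O₂ := hmem₂ p₂ hp₂.1 hp₂.2 hp₂v
  obtain ⟨q, -, hq1, hq2⟩ := (h₃ (O₁ ∪ O₂) ((isOpen_killed J _).union (isOpen_killed J _)) ⟨p₁, Or.inl h1⟩
    (fun p hp => (huv hp).elim (fun h => Or.inl (hmem₁ p hp.1 hp.2 h)) fun h => Or.inr (hmem₂ p hp.1 hp.2 h))).2
    O₁ O₂ (isOpen_killed J _) (isOpen_killed J _) subset_rfl ⟨p₁, Or.inl h1, h1⟩ ⟨p₂, Or.inr h2, h2⟩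
  exact hdisj q hq1 hq2

omit [IsNoetherianRing A] in
theorem ass_quotient_nilradical {p : Ideal A} (hp : p ∈ associatedPrimes A (A ⧸ nilradical A))
    [IsNoetherianRing A] : p ∈ minimalPrimes A := by
  obtain ⟨hpp, v, hv⟩ := (isAssociatedPrime_iff (R := A) (I := p) (M := A ⧸ nilradical A)).1 hp
  obtain ⟨x, rfl⟩ := Submodule.Quotient.mk_surjective _ v
  have hmem : ∀ a : A, a ∈ p ↔ a * x ∈ nilradical A := fun a => by
    rw [hv, Submodule.mem_colon_singleton, Submodule.mem_bot, ← Submodule.Quotient.mk_smul,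
      Submodule.Quotient.mk_eq_zero, smul_eq_mul]
  have hx : x ∉ nilradical A := fun h => hpp.ne_top ((Ideal.eq_top_iff_one _).2 ((hmem 1).2 (by rwa [one_mul])))
  rw [nilradical, ← Ideal.sInf_minimalPrimes, Submodule.mem_sInf] at hx
  push_neg at hx
  obtain ⟨P, hP, hxP⟩ := hx
  have hle : p ≤ P := fun a ha => by
    refine (hP.1.1.mem_or_mem ?_).resolve_right hxP
    have h := (hmem a).1 ha
    rw [nilradical, ← Ideal.sInf_minimalPrimes, Submodule.mem_sInf] at h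
    exact h P hP
  exact (le_antisymm hle (hP.2 ⟨hpp, bot_le⟩ hle)) ▸ hP

omit [IsNoetherianRing A] in
theorem smul_one_ne_zero (p : PrimeSpectrum A) (s : A) (hs : s ∉ p.asIdeal) :
    s • (Submodule.Quotient.mk 1 : A ⧸ nilradical A) ≠ 0 := by
  rw [← Submodule.Quotient.mk_smul, Ne, Submodule.Quotient.mk_eq_zero, smul_eq_mul, mul_one]
  exact fun h => hs (p.isPrime.mem_of_pow_mem _ (h.choose_spec ▸ zero_mem _))

end FormalPunctLib

end
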