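import Groth.Prelude.Def_Formal2
import Groth.Prelude.Def_Wider
import Groth.Agent.LocCohLib.Delta
import Groth.Agent.QCohLib.AbCoh
import Groth.Agent.QCohLib.Modules
import Groth.Agent.KoszLib.Inj
import Groth.Agent.FormalPunctLib.Tilde
import Groth.Agent.FormalPunctLib.ExtDelta

/-! Cohomology of `M~` over an open as a delta functor of `M`. -/

set_option autoImplicit false
set_option linter.style.haveILetI false
set_option maxHeartbeats 1000000
universe u

noncomputable section

open CategoryTheory CategoryTheory.Limits AlgebraicGeometry TopologicalSpace Opposite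
open CategoryTheory.Abelian

namespace FormalPunctLib

variable (A : Type u) [CommRing A]

/-- `M ↦ M~` as abelian sheaves. -/
abbrev shF : ModuleCat.{u} A ⥤ CohTop.Ab (Spec (CommRingCat.of A)).toTopCat :=
  tilde.functor (CommRingCat.of A) ⋙ QCohLib.toAbF (Spec (CommRingCat.of A))

variable {A}

end FormalPunctLib

namespace FormalPunctLib

variable {A : Type u} [CommRing A]

instance additive_shF : (shF A).Additive :=
  haveI : (tilde.functor (CommRingCat.of A)).Additive :=
    instAdditiveModuleCatCarrierModulesSpecOfFunctor (R := CommRingCat.of A)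
  inferInstance

theorem shortExact_shF {S : ShortComplex (ModuleCat.{u} A)} (hS : S.ShortExact) :
    (S.map (shF A)).ShortExact :=
  QCohLib.toAbF_shortExact (shortExact_tilde (R := CommRingCat.of A) hS)

variable (A)

/-- The delta functor `H^i(V, -~)`. -/
def hvDelta (V : (Spec (CommRingCat.of A)).Opens) :
    LocCohLib.DeltaFun (ModuleCat.{u} A) AddCommGrpCat.{u} :=
  extCompDelta (shF A) shortExact_shF (QCohLib.zsh V)

variable {A}

theorem hU_eq (V : (Spec (CommRingCat.of A)).Opens) (i : ℕ) (M : Type u) [AddCommGroup M] [Module A M] :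
    (((hvDelta A V).F i).obj (ModuleCat.of A M) : Type u) = Formal2.HV A M i V := rfl

theorem hvMap_apply (V : (Spec (CommRingCat.of A)).Opens) (i : ℕ) {M N : Type u} [AddCommGroup M] [Module A M]
    [AddCommGroup N] [Module A N] (φ : M →ₗ[A] N) (x : Formal2.HV A M i V) :
    Formal2.HVmap A φ i V x = (((hvDelta A V).F i).map (ModuleCat.ofHom φ)).hom x := rfl

theorem hvDelta_effaceable [IsNoetherianRing A] (V : (Spec (CommRingCat.of A)).Opens) :
    (hvDelta A V).Effaceable := by
  intro E hE i
  haveI := hE
  have hf : TopCat.Sheaf.IsFlasque (Coh.toAb (AlgebraicGeometry.tilde (R := CommRingCat.of A) (ModuleCat.of A E))) :=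
    (KoszLib.isFlasque_tilde_iff A E).2 fun fs =>
      KoszLib.subsingleton_lim_one fs (Module.injective_module_of_injective_object A E)
  have h : Subsingleton (QCohLib.HU ((shF A).obj E) (i + 1) V) :=
    @QCohLib.subsingleton_of_isFlasque _ i ((shF A).obj E) hf V
  exact @AddCommGrpCat.isZero_of_subsingleton (((hvDelta A V).F (i + 1)).obj E) h

end FormalPunctLib

end
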