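import Groth.Agent.FormalPunctLib.Sat
import Groth.Agent.LcFinLib.Compare

/-! Sections extend over points of depth at least two. -/

set_option autoImplicit false
set_option linter.style.haveILetI false
set_option maxHeartbeats 1000000
universe u

noncomputable section

open CategoryTheory AlgebraicGeometry TopologicalSpace Opposite
open Groth.Agent
open CommAlgDim PunctSections

attribute [local instance] HasDerivedCategory.standard

namespace FormalPunctLib

variable {A : Type u} [CommRing A] {J 𝔞 : Ideal A}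

omit 𝔞 in
theorem compl_le {J 𝔞 : Ideal A} (h : J ≤ 𝔞) :
    compl (R := CommRingCat.of A) J ≤ compl (R := CommRingCat.of A) 𝔞 :=
  fun _ hx h' => hx fun _ ha => h' (h ha)

/-- Restriction of sections between punctured spectra. -/
def pres (h : J ≤ 𝔞) (M : ModuleCat.{u} A) : PSec 𝔞 M →ₗ[A] PSec J M :=
  res (R := CommRingCat.of A) M (compl_le h)

theorem pres_pto (h : J ≤ 𝔞) (M : ModuleCat.{u} A) (m : M) : pres h M (pto 𝔞 M m) = pto J M m :=
  res_toSec (R := CommRingCat.of A) (M := M) (compl_le h) m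

variable [IsNoetherianRing A] (M : Type u) [AddCommGroup M] [Module A M] [Module.Finite A M]

theorem torsionSub_le_of_depth (hd : ∀ q : PrimeSpectrum A, J ≤ q.asIdeal → ¬ 𝔞 ≤ q.asIdeal →
      ((1 : ℕ) : ℕ∞) ≤ LocCoh.depth (Localization.AtPrime q.asIdeal) (LocalizedModule q.asIdeal.primeCompl M)) :
    DRing.torsionSub J M ≤ DRing.torsionSub 𝔞 M := by
  intro m hm
  let N : Submodule A M := Submodule.span A {m}
  haveI : Module.Finite A N := Module.Finite.of_fg (Submodule.fg_span_singleton m)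
  have hann : 𝔞 ≤ (Module.annihilator A N).radical := by
    rw [← Ideal.sInf_minimalPrimes]
    refine le_sInf fun q hq => ?_
    have hqN := Module.associatedPrimes.minimalPrimes_annihilator_subset_associatedPrimes A N hq
    haveI := hqN.isPrime
    have hJq : J ≤ q := fun f hf => by
      obtain ⟨k, hk⟩ := hm
      refine hqN.isPrime.mem_of_pow_mem k (hq.1.2 ?_)
      rw [Module.mem_annihilator]
      rintro ⟨v, hv⟩
      obtain ⟨c, rfl⟩ := Submodule.mem_span_singleton.1 hv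
      refine Subtype.ext ?_
      show f ^ k • c • m = 0
      rw [smul_comm, hk _ (Ideal.pow_mem_pow hf k), smul_zero]
    by_contra haq
    have hqM : q ∈ associatedPrimes A M :=
      associatedPrimes.subset_of_injective (f := N.subtype) Subtype.val_injective hqN
    exact CommAlgDim.maximalIdeal_notMem_of_hasSeqIn_one
      ((CommAlgDim.le_depth_iff 1).1 (hd ⟨q, hqN.isPrime⟩ hJq haq)) hqM
  obtain ⟨k, hk⟩ := Ideal.exists_pow_le_of_le_radical_of_fg hann (IsNoetherian.noetherian 𝔞)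
  exact ⟨k, fun a ha => congrArg Subtype.val
    (Module.mem_annihilator.1 (hk ha) ⟨m, Submodule.mem_span_singleton_self m⟩)⟩

theorem isPowerTorsion_H_one (I : Ideal A) (N : Type u) [AddCommGroup N] [Module A N] :
    LocCoh.IsPowerTorsion I (LocCoh.H I 1 N) := fun y => by
  obtain ⟨z, rfl⟩ := (IdealTransLib.cokerEquiv (I := I) N).surjective y
  obtain ⟨n, hn⟩ := IdealTransLib.isPowerTorsion_coker (I := I) (M := N) z
  exact ⟨n, fun a ha => by rw [← map_smul, hn a ha, map_zero]⟩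

theorem pres_bijective {ω : Dual.D A} (hω : Dual.IsDualizing A ω) (h : J ≤ 𝔞)
    (hd : ∀ q : PrimeSpectrum A, J ≤ q.asIdeal → ¬ 𝔞 ≤ q.asIdeal →
      ((2 : ℕ) : ℕ∞) ≤ LocCoh.depth (Localization.AtPrime q.asIdeal) (LocalizedModule q.asIdeal.primeCompl M)) :
    Function.Bijective (pres h (ModuleCat.of A M)) := by
  have hΓ : DRing.torsionSub J M ≤ DRing.torsionSub 𝔞 M := torsionSub_le_of_depth M fun q h1 h2 =>
    le_trans (ENat.coe_le_coe.2 (by norm_num)) (hd q h1 h2)
  have hker : LinearMap.ker (LocCoh.toDT J M) ≤ DRing.torsionSub 𝔞 M := IdealTransLib.ker_toDT.le.trans hΓ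
  have hcoker : LocCoh.IsPowerTorsion 𝔞 (LocCoh.DT J M ⧸ LinearMap.range (LocCoh.toDT J M)) := by
    intro z
    have hb := LcFinLib.bijective_HmapOfLE hω M h 1 (fun q h1 h2 =>
      lt_of_lt_of_le (ENat.coe_lt_coe.2 one_lt_two) (hd q h1 h2)) 1 le_rfl
    obtain ⟨w, hw⟩ := hb.2 (IdealTransLib.cokerEquiv (I := J) M z)
    obtain ⟨k, hk⟩ := isPowerTorsion_H_one 𝔞 M w
    refine ⟨k, fun a ha => (IdealTransLib.cokerEquiv (I := J) M).injective ?_⟩
    rw [map_smul, map_zero, ← hw, ← map_smul]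
    exact (congrArg _ (hk a ha)).trans (map_zero _)
  obtain ⟨ψ, hψ, -⟩ := IdealTransLib.existsUnique_factor hker hcoker LinearMap.id
  have hψ' : ∀ m, ψ (LocCoh.toDT J M m) = LocCoh.toDT 𝔞 M m := fun m => LinearMap.congr_fun hψ m
  let g : PSec 𝔞 (ModuleCat.of A M) →ₗ[A] LocCoh.DT J M := θ J (ModuleCat.of A M) ∘ₗ pres h (ModuleCat.of A M)
  have hψg : ψ ∘ₗ g = θ 𝔞 (ModuleCat.of A M) := by
    refine IdealTransLib.hom_ext_torsion (e := pto 𝔞 (ModuleCat.of A M)) (coker_pto 𝔞 _) (LinearMap.ext fun m => ?_)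
    show ψ (θ J _ (pres h _ (pto 𝔞 _ m))) = θ 𝔞 _ (pto 𝔞 _ m)
    rw [pres_pto, θ_pto, θ_pto]
    exact hψ' m
  have hψinj : Function.Injective ψ := by
    rw [injective_iff_map_eq_zero]
    intro z hz
    obtain ⟨k, hk⟩ := hcoker (Submodule.Quotient.mk z)
    have hzero : ∀ a ∈ 𝔞 ^ k, a • z ∈ DRing.torsionSub J (LocCoh.DT J M) := fun a ha => by
      have h1 := hk a ha
      rw [← Submodule.Quotient.mk_smul, Submodule.Quotient.mk_eq_zero] at h1
      obtain ⟨m, hm⟩ := h1
      have h2 : LocCoh.toDT 𝔞 M m = 0 := by rw [← hψ', hm, map_smul, hz, smul_zero]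
      obtain ⟨t, ht⟩ := IdealTransLib.ker_toDT.le (LinearMap.mem_ker.2 h2)
      refine ⟨t, fun b hb => ?_⟩
      rw [← hm, ← map_smul, ht b (Ideal.pow_right_mono h t hb), map_zero]
    rw [IdealTransLib.torsionSub_DT] at hzero
    have hz' : z ∈ DRing.torsionSub J (LocCoh.DT J M) :=
      ⟨k, fun a ha => (Submodule.mem_bot A).1 (hzero a (Ideal.pow_right_mono h k ha))⟩
    rw [IdealTransLib.torsionSub_DT] at hz'
    exact (Submodule.mem_bot A).1 hz'
  have hginj : Function.Injective g := fun x y hxy => θ_injective 𝔞 _ (by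
    rw [← hψg]
    exact congrArg ψ hxy)
  have hgsurj : Function.Surjective g := fun x => by
    obtain ⟨s, hs⟩ := θ_surjective 𝔞 (ModuleCat.of A M) (ψ x)
    exact ⟨s, hψinj ((LinearMap.congr_fun hψg s).trans hs)⟩
  exact ⟨fun x y hxy => hginj (congrArg (θ J (ModuleCat.of A M)) hxy), fun x => by
    obtain ⟨s, hs⟩ := hgsurj (θ J (ModuleCat.of A M) x)
    exact ⟨s, θ_injective J _ hs⟩⟩

theorem HVres_bijective {ω : Dual.D A} (hω : Dual.IsDualizing A ω)
    (h : LocCoh.puncturedOpen A J ≤ LocCoh.puncturedOpen A 𝔞) (hle : J ≤ 𝔞)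
    (hd : ∀ q : PrimeSpectrum A, J ≤ q.asIdeal → ¬ 𝔞 ≤ q.asIdeal →
      ((2 : ℕ) : ℕ∞) ≤ LocCoh.depth (Localization.AtPrime q.asIdeal) (LocalizedModule q.asIdeal.primeCompl M)) :
    Function.Bijective (Formal2.HVres A M 0 h) := by
  have hb := pres_bijective M hω hle hd
  have e : ∀ x, secEquiv J (ModuleCat.of A M) (Formal2.HVres A M 0 h x) =
      pres hle (ModuleCat.of A M) (secEquiv 𝔞 (ModuleCat.of A M) x) := fun x =>
    QCohLib.h0_res (F := (shF A).obj (ModuleCat.of A M)) (homOfLE h) x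
  refine ⟨fun x y hxy => (secEquiv 𝔞 _).injective (hb.1 (by rw [← e, ← e, hxy])), fun y => ?_⟩
  obtain ⟨w, hw⟩ := hb.2 (secEquiv J _ y)
  obtain ⟨x, rfl⟩ := (secEquiv 𝔞 (ModuleCat.of A M)).surjective w
  exact ⟨x, (secEquiv J _).injective ((e x).trans hw)⟩

variable {M} {I : Ideal A} [IsAdicComplete I A]

/-- Sections over the punctured spectrum are formal sections. -/
theorem formalCohBijective_zero_of_depth (hI : I ≤ 𝔞) {ω : Dual.D A} (hω : Dual.IsDualizing A ω)
    (hc : Formal2.FormalCohColimBijective A I M 0 (LocCoh.puncturedOpen A 𝔞))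
    (h₃ : ∀ (p : Ideal A) [p.IsPrime], ¬ 𝔞 ≤ p → (∀ (r : Ideal A), r.IsPrime → p ≤ r → I ≤ r → 𝔞 ≤ r) →
      (2 : ℕ∞) ≤ LocCoh.depth (Localization.AtPrime p) (LocalizedModule p.primeCompl M)) :
    Formal2.FormalCohBijective A I M 0 (LocCoh.puncturedOpen A 𝔞) := by
  have hself : Formal2.Admissible A I (LocCoh.puncturedOpen A 𝔞) (LocCoh.puncturedOpen A 𝔞) :=
    ⟨le_rfl, fun _ hp _ => hp⟩
  -- every admissible open contains a punctured one with the same formal neighbourhood
  have hres : ∀ V, Formal2.Admissible A I (LocCoh.puncturedOpen A 𝔞) V →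
      ∃ (J : Ideal A) (hJV : LocCoh.puncturedOpen A J ≤ V)
        (hJ : LocCoh.puncturedOpen A J ≤ LocCoh.puncturedOpen A 𝔞),
        Function.Bijective (Formal2.HVres A M 0 hJ) ∧
          ∀ n, Function.Injective (Formal2.HVres A (Formal2.quotPow A I M n) 0 hJ) := by
    intro V hV
    obtain ⟨J, hJa, hJI, hJV, hadm⟩ := exists_admissible_punct hI le_rfl (fun q h _ => h) V hV
    refine ⟨J, hJV, hadm.1, HVres_bijective M hω hadm.1 hJa fun q hJq haq => ?_, fun n => ?_⟩
    · exact h₃ q.asIdeal haq fun r hr hqr hIr => hJI ⟨r, hr⟩ (hJq.trans hqr) hIr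
    · refine (HVres_bijective (Formal2.quotPow A I M n) hω hadm.1 hJa fun q hJq haq => ?_).1
      have hIq : ¬ I ≤ q.asIdeal := fun hI' => haq (hJI q hJq hI')
      obtain ⟨x, hxI, hxq⟩ := Set.not_subset.1 hIq
      haveI : Subsingleton (LocalizedModule q.asIdeal.primeCompl (Formal2.quotPow A I M n)) := by
        rw [LocalizedModule.subsingleton_iff]
        intro z
        obtain ⟨z, rfl⟩ := Submodule.Quotient.mk_surjective _ z
        refine ⟨x ^ (n + 1), fun h => hxq (q.isPrime.mem_of_pow_mem _ h), ?_⟩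
        rw [← Submodule.Quotient.mk_smul, Submodule.Quotient.mk_eq_zero]
        exact Submodule.smul_mem_smul (Ideal.pow_mem_pow hxI _) Submodule.mem_top
      exact (CommAlgDim.le_depth_iff (R := Localization.AtPrime q.asIdeal) 2).2
        (CommAlgDim.hasSeqIn_of_subsingleton _ _)
  obtain ⟨hinj, hsurj⟩ := hc
  refine ⟨fun x x' hxx => ?_, fun y hy => ?_⟩
  · obtain ⟨V', ⟨hV', hVV⟩, h0⟩ := hinj _ hself (x - x') fun n => by rw [map_sub, hxx n, sub_self]
    obtain ⟨J, hJV, hJ, hb, -⟩ := hres V' hV'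
    refine sub_eq_zero.1 (hb.1 ?_)
    rw [map_zero, ← HVres_res 0 hVV hJV, h0, map_zero]
  · obtain ⟨V, hV, x, hx⟩ := hsurj y hy
    obtain ⟨J, hJV, hJ, hb, hbn⟩ := hres V hV
    obtain ⟨x', hx'⟩ := hb.2 (Formal2.HVres A M 0 hJV x)
    refine ⟨x', fun n => hbn n ?_⟩
    rw [HVres_HVmap, hx', ← HVres_HVmap, ← hx n, HVres_res 0 hV.1 hJV]

end FormalPunctLib

end
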