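import Groth.Agent.FormalPunctLib.Main
import Groth.Agent.LocCohLib.Finiteness

/-! Formal cohomology of the punctured spectrum of a local ring. -/

set_option autoImplicit false
set_option linter.style.haveILetI false
set_option maxHeartbeats 1000000
universe u

noncomputable section

open CategoryTheory AlgebraicGeometry
open Groth.Agent

attribute [local instance] HasDerivedCategory.standard

namespace FormalPunctLib

variable {A : Type u} [CommRing A] [IsNoetherianRing A] [IsLocalRing A] (I : Ideal A) (M : Type u)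
  [AddCommGroup M] [Module A M] [Module.Finite A M]

/-- Artinian systems are Mittag-Leffler. -/
theorem fML_local (i : ℕ) : FML (ab (localCohomology (IsLocalRing.maximalIdeal A) i)) I M := by
  intro n
  let F := localCohomology (IsLocalRing.maximalIdeal A) i
  haveI : IsArtinian A (F.obj (qn I M n)) := LocCohLib.isArtinian_H i (Formal2.quotPow A I M n)
  have hcomp : ∀ {a b c : ℕ} (h : a ≤ b) (h' : b ≤ c) (y : F.obj (qn I M c)),
      (F.map (qT I M h)).hom ((F.map (qT I M h')).hom y) = (F.map (qT I M (h.trans h'))).hom y := by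
    intro a b c h h' y
    refine (congr($(F.map_comp (qT I M h') (qT I M h)).hom y)).symm.trans ?_
    rw [qT_eq, qT_eq, qT_eq, DRingLib.mqT_T]
  have hanti : Antitone fun k => LinearMap.range (F.map (qT I M (Nat.le_add_right n k))).hom := by
    rintro k k' hk _ ⟨y, rfl⟩
    exact ⟨(F.map (qT I M (Nat.add_le_add_left hk n))).hom y, hcomp _ _ y⟩
  obtain ⟨N, hN⟩ := IsArtinian.monotone_stabilizes
    ⟨fun k => OrderDual.toDual (LinearMap.range (F.map (qT I M (Nat.le_add_right n k))).hom), fun _ _ h => hanti h⟩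
  refine ⟨n + N, Nat.le_add_right n N, fun l hl x => ?_⟩
  obtain ⟨j, rfl⟩ := Nat.exists_eq_add_of_le ((Nat.le_add_right n N).trans hl)
  have h1 : LinearMap.range (F.map (qT I M (Nat.le_add_right n N))).hom =
      LinearMap.range (F.map (qT I M (Nat.le_add_right n j))).hom := hN j (by omega)
  exact h1.le ⟨x, rfl⟩

omit [IsNoetherianRing A] in
theorem dimBetween_maximalIdeal (p : Ideal A) :
    Formal2.dimBetween A p (IsLocalRing.maximalIdeal A) = ringKrullDim (A ⧸ p) := by
  let e : A ≃ₐ[A] Localization.AtPrime (IsLocalRing.maximalIdeal A) :=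
    IsLocalization.atUnits A (IsLocalRing.maximalIdeal A).primeCompl fun x hx =>
      not_not.1 fun h => hx ((IsLocalRing.mem_maximalIdeal x).2 h)
  refine (ringKrullDim_eq_of_ringEquiv (Ideal.quotientEquiv p
    (p.map (algebraMap A (Localization.AtPrime (IsLocalRing.maximalIdeal A)))) e.toRingEquiv ?_)).symm
  exact congrArg (fun g => Ideal.map g p) (RingHom.ext fun x => (e.commutes x).symm)

variable {I M} [IsAdicComplete I A]

omit [IsNoetherianRing A] [IsAdicComplete I A] in
theorem zeroLocus_mul_eq {J K : Ideal A} (h : LocCoh.puncturedOpen A K ≤ LocCoh.puncturedOpen A J) :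
    LocCoh.puncturedOpen A K = LocCoh.puncturedOpen A (J * K) := by
  ext q
  refine ⟨fun hq hJK => ?_, fun hq hK => hq (show J * K ≤ (q : PrimeSpectrum A).asIdeal from Ideal.mul_le_right.trans (show K ≤ (q : PrimeSpectrum A).asIdeal from hK))⟩
  rcases (q : PrimeSpectrum A).isPrime.mul_le.1 hJK with h' | h'
  · exact h hq h'
  · exact hq h'

/-- Formal cohomology of small opens of the punctured spectrum. -/
theorem exists_open_bijective {ω : Dual.D A} (hω : Dual.IsDualizing A ω) (d : ℕ) (hd : LocCoh.CdLE A I d) (s : ℕ)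
    (hI : I ≤ IsLocalRing.maximalIdeal A)
    (h₂ : ∀ (p : Ideal A) [p.IsPrime], ¬ I ≤ p →
      (∃ r : Ideal A, r.IsPrime ∧ p ≤ r ∧ I ≤ r ∧ r ≠ IsLocalRing.maximalIdeal A) →
        (s : ℕ∞) ≤ LocCoh.depth (Localization.AtPrime p) (LocalizedModule p.primeCompl M) ∨
          ((d + s : ℕ) : WithBot ℕ∞) <
            ((LocCoh.depth (Localization.AtPrime p) (LocalizedModule p.primeCompl M) : ℕ∞) : WithBot ℕ∞) +
              ringKrullDim (A ⧸ p)) :
    ∃ V₀ : (Spec (CommRingCat.of A)).Opens,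
      Formal2.Admissible A I (LocCoh.puncturedOpen A (IsLocalRing.maximalIdeal A)) V₀ ∧
      ∀ V : (Spec (CommRingCat.of A)).Opens,
        Formal2.Admissible A I (LocCoh.puncturedOpen A (IsLocalRing.maximalIdeal A)) V → V ≤ V₀ →
          ∀ i : ℕ, i < s → Formal2.FormalCohBijective A I M i V := by
  set 𝔪 := IsLocalRing.maximalIdeal A
  haveI : DRing.HasDerivedCompletion I := DCompLib.hasDerivedCompletion (IsNoetherian.noetherian I)
  obtain ⟨J₀, hJ₀, hV₀, hcompl⟩ := exists_ideal_completion I hω 𝔪 M s d hd fun p hIp hr q hpq hq => by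
    obtain ⟨r, hpr, hIr, hr⟩ := hr
    have hqm : q.asIdeal = 𝔪 := le_antisymm (IsLocalRing.le_maximalIdeal q.isPrime.ne_top) hq
    rcases h₂ p.asIdeal hIp ⟨r.asIdeal, r.isPrime, hpr, hIr, fun h => hr h.ge⟩ with h | h
    · exact Or.inl h
    refine Or.inr (lt_of_lt_of_eq h (congrArg _ ?_))
    obtain ⟨q, hq'⟩ := q
    obtain rfl : q = 𝔪 := hqm
    exact (dimBetween_maximalIdeal p.asIdeal).symm
  have hJ₀I : ∀ q : PrimeSpectrum A, J₀ ≤ q.asIdeal → I ≤ q.asIdeal → 𝔪 ≤ q.asIdeal := fun q h1 h2 =>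
    ((Set.ext_iff.1 hV₀ q).1 ⟨h1, h2⟩).1
  refine ⟨LocCoh.puncturedOpen A J₀, ⟨punct_le_punct hJ₀, fun p hp hIp hJp => hp (hJ₀I p hJp hIp)⟩,
    fun V hV hVle i hi => ?_⟩
  obtain ⟨fs, rfl⟩ := KoszLib.exists_list_eq_puncturedOpen A V
  set K := Ideal.span {a | a ∈ fs}
  rw [zeroLocus_mul_eq hVle]
  set J := J₀ * K
  have hJle : J ≤ J₀ := Ideal.mul_le_left
  have hJI : ∀ q : PrimeSpectrum A, J ≤ q.asIdeal → I ≤ q.asIdeal → 𝔪 ≤ q.asIdeal := fun q hq hIq => by
    rcases q.isPrime.mul_le.1 hq with h | h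
    · exact hJ₀I q h hIq
    · by_contra hm
      exact hV.2 q hm hIq h
  haveI : DRing.HasRgammaI J :=
    DerLib.KInjDerived.hasRightDerivedFunctor _ (DerLib.KInjDerived.enoughKInj _)
  have hm : ∀ j, FML (LC J j) I M := fun j =>
    fML_lc_of_le hω (hJle.trans hJ₀) hJI (fML_local I M j)
  have hVJ : PrimeSpectrum.zeroLocus (J : Set A) ∩ PrimeSpectrum.zeroLocus (I : Set A) =
      PrimeSpectrum.zeroLocus (𝔪 : Set A) ∩ PrimeSpectrum.zeroLocus (I : Set A) := by
    ext q
    exact ⟨fun ⟨h1, h2⟩ => ⟨hJI q h1 h2, h2⟩, fun ⟨h1, h2⟩ => ⟨fun x hx => h1 (hJ₀ (hJle hx)), h2⟩⟩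
  refine formalCohBijective_of_lc s (fun j hj => ?_) (fun j _ => hm j) i hi
  exact fBij_lc_of_completion J j (hcompl J hJle hVJ (j : ℤ) (by exact_mod_cast hj)) fun k _ => hm k

end FormalPunctLib

end
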