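import Groth.Agent.FormalPunctLib.Systems
import Groth.Agent.BootDualLib.Main
import Groth.Agent.BootDualLib.RgNat
import Groth.Agent.BootDualLib.RlimEval
import Groth.Agent.LcFinLib.Compare
import Groth.Agent.CommAlgDim.Depth
import Groth.Agent.DRingLib.RgammaHat

/-! Local cohomology of the systems `M / I^(n+1) M`. -/

set_option autoImplicit false
set_option linter.style.haveILetI false
set_option linter.unusedSectionVars false
set_option maxHeartbeats 1000000
universe u

noncomputable section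

open CategoryTheory CategoryTheory.Limits
open Groth.Agent Groth.Agent.DRingLib
open CategoryTheory.Pretriangulated (Triangle)

attribute [local instance] HasDerivedCategory.standard

namespace FormalPunctLib

variable {A : Type u} [CommRing A] [IsNoetherianRing A] (I : Ideal A) (M : Type u) [AddCommGroup M] [Module A M]
  [Module.Finite A M]

/-- Forgetting the module structure. -/
abbrev ab (F : ModuleCat.{u} A ⥤ ModuleCat.{u} A) : ModuleCat.{u} A ⥤ AddCommGrpCat.{u} :=
  F ⋙ forget₂ (ModuleCat.{u} A) AddCommGrpCat.{u}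

theorem qπ_eq (n : ℕ) : qπ I M n = mqπ I M (n + 1) := rfl

theorem qt_eq (n : ℕ) : qt I M n = mqT I M (Nat.le_succ (n + 1)) :=
  ModuleCat.hom_ext (Submodule.linearMap_qext _ (LinearMap.ext fun x => qt_apply I M n x))

theorem qT_eq {n m : ℕ} (h : n ≤ m) : qT I M h = mqT I M (Nat.succ_le_succ h) :=
  ModuleCat.hom_ext (Submodule.linearMap_qext _ (LinearMap.ext fun x => qT_apply I M h x))

theorem Mq_zero_eq (F : ModuleCat.{u} A ⥤ ModuleCat.{u} A) [F.PreservesZeroMorphisms] :
    Subsingleton (F.obj (Mq I M 0)) := by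
  haveI : Subsingleton (M ⧸ (I ^ 0 • ⊤ : Submodule A M)) := by
    rw [Submodule.Quotient.subsingleton_iff, pow_zero, Ideal.one_eq_top, Submodule.top_smul]
  exact ModuleCat.subsingleton_of_isZero (F.map_isZero (ModuleCat.isZero_of_subsingleton (Mq I M 0)))

variable {I M}

theorem fBij_of_mq (F : ModuleCat.{u} A ⥤ ModuleCat.{u} A) [F.PreservesZeroMorphisms]
    (hinj : ∀ x, (∀ n, (F.map (mqπ I M n)).hom x = 0) → x = 0)
    (hsurj : ∀ y : ∀ n, F.obj (Mq I M n), (∀ n, (F.map (mqT I M (Nat.le_succ n))).hom (y (n + 1)) = y n) →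
      ∃ x, ∀ n, (F.map (mqπ I M n)).hom x = y n) : FBij (ab F) I M := by
  haveI := Mq_zero_eq I M F
  refine ⟨fun x hx => hinj x fun n => ?_, fun y hy => ?_⟩
  · cases n with
    | zero => exact Subsingleton.elim _ _
    | succ n => exact hx n
  · obtain ⟨x, hx⟩ := hsurj (fun n => n.casesOn 0 fun k => y k) fun n => by
      cases n with
      | zero => exact Subsingleton.elim _ _
      | succ n =>
        refine Eq.trans ?_ (hy n)
        show _ = (F.map (qt I M n)).hom (y (n + 1))
        rw [qt_eq]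
    exact ⟨x, fun n => hx (n + 1)⟩

theorem fML_of_mq (F : ModuleCat.{u} A ⥤ ModuleCat.{u} A)
    (h : ∀ n, ∃ (k : ℕ) (hk : n ≤ k), ∀ (l : ℕ) (hl : k ≤ l),
      Set.range (F.map (mqT I M (hk.trans hl))).hom = Set.range (F.map (mqT I M hk)).hom) : FML (ab F) I M := by
  intro n
  obtain ⟨k, hk, hl⟩ := h (n + 1)
  refine ⟨k - 1, by omega, fun l hkl x => ?_⟩
  have hk1 : k - 1 + 1 = k := by omega
  revert hkl x
  obtain ⟨k', rfl⟩ : ∃ k', k = k' + 1 := ⟨k - 1, hk1.symm⟩
  intro hkl x
  obtain ⟨y, hy⟩ : (F.map (mqT I M hk)).hom x ∈ Set.range (F.map (mqT I M (hk.trans (Nat.succ_le_succ hkl)))).hom :=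
    (hl (l + 1) (Nat.succ_le_succ hkl)).symm ▸ ⟨x, rfl⟩
  refine ⟨y, ?_⟩
  show (F.map (qT I M _)).hom y = (F.map (qT I M _)).hom x
  rw [qT_eq, qT_eq]
  exact hy

variable (I M)

/-- `H^i_{V(a)} ≅ H^i_a`. -/
def htLcIso (a : Ideal A) (i : ℕ) :
    BootDualLib.HTf (PrimeSpectrum.zeroLocus (a : Set A)) i ≅ localCohomology a i :=
  LocCohLib.DeltaFun.isoOfZero (T := (LcFinLib.htGD (PrimeSpectrum.zeroLocus (a : Set A))).D)
    (T' := (LcFinLib.lcGD a).D) (LcFinLib.htGD _).eff (LcFinLib.lcGD a).eff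
    ((LcFinLib.htGD _).e ≪≫ (LcFinLib.lcGD a).e.symm) i

variable {I M}

theorem fBij_lc_of_proZero (a : Ideal A) {i : ℕ}
    (h0 : BootDualLib.ProZero I M (PrimeSpectrum.zeroLocus (a : Set A)) i)
    (h1 : BootDualLib.ProZero I M (PrimeSpectrum.zeroLocus (a : Set A)) (i + 1)) :
    FBij (ab (localCohomology a i)) I M := by
  haveI : (BootDualLib.HTf (PrimeSpectrum.zeroLocus (a : Set A)) i).PreservesZeroMorphisms :=
    (LcFinLib.htDelta _).preservesZero i
  refine (fBij_of_mq (BootDualLib.HTf (PrimeSpectrum.zeroLocus (a : Set A)) i) (fun x hx => ?_)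
    (BootDualLib.exists_lift h0 h1)).of_iso (Functor.isoWhiskerRight (htLcIso a i) _)
  obtain ⟨m, hm, -⟩ := BootDualLib.exists_injective h0
  exact hm m le_rfl x (hx m)

theorem fML_lc_of_proZero (a : Ideal A) {i : ℕ}
    (h1 : BootDualLib.ProZero I M (PrimeSpectrum.zeroLocus (a : Set A)) (i + 1)) :
    FML (ab (localCohomology a i)) I M :=
  (fML_of_mq _ (BootDualLib.exists_range_eq h1)).of_iso (Functor.isoWhiskerRight (htLcIso a i) _)

theorem bijective_HmapOfLE_quot {ω : Dual.D A} (hω : Dual.IsDualizing A ω) {a J : Ideal A} (hJ : J ≤ a)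
    (hJI : ∀ q : PrimeSpectrum A, J ≤ q.asIdeal → I ≤ q.asIdeal → a ≤ q.asIdeal) (i n : ℕ) :
    Function.Bijective ((Dual2.HmapOfLE hJ i).app (qn I M n)).hom := by
  refine LcFinLib.bijective_HmapOfLE hω (Formal2.quotPow A I M n) hJ i (fun q hJq haq => ?_) i le_rfl
  have hIq : ¬ I ≤ q.asIdeal := fun h => haq (hJI q hJq h)
  obtain ⟨x, hxI, hxq⟩ := Set.not_subset.1 hIq
  haveI : Subsingleton (LocalizedModule q.asIdeal.primeCompl (Formal2.quotPow A I M n)) := by
    rw [LocalizedModule.subsingleton_iff]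
    intro z
    obtain ⟨z, rfl⟩ := Submodule.Quotient.mk_surjective _ z
    refine ⟨x ^ (n + 1), fun h => hxq (q.isPrime.mem_of_pow_mem _ h), ?_⟩
    rw [← Submodule.Quotient.mk_smul, Submodule.Quotient.mk_eq_zero]
    exact Submodule.smul_mem_smul (Ideal.pow_mem_pow hxI _) Submodule.mem_top
  refine lt_of_lt_of_le (ENat.coe_lt_coe.2 (Nat.lt_succ_self i)) ?_
  exact (CommAlgDim.le_depth_iff (R := Localization.AtPrime q.asIdeal) (i + 1)).2
    (CommAlgDim.hasSeqIn_of_subsingleton _ _)

theorem fML_lc_of_le {ω : Dual.D A} (hω : Dual.IsDualizing A ω) {a J : Ideal A} (hJ : J ≤ a)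
    (hJI : ∀ q : PrimeSpectrum A, J ≤ q.asIdeal → I ≤ q.asIdeal → a ≤ q.asIdeal) {i : ℕ}
    (h : FML (ab (localCohomology a i)) I M) : FML (ab (localCohomology J i)) I M := by
  intro n
  obtain ⟨k, hk, hl⟩ := h n
  let ν := Dual2.HmapOfLE hJ i
  refine ⟨k, hk, fun l hkl x => ?_⟩
  obtain ⟨x', rfl⟩ := (bijective_HmapOfLE_quot hω hJ hJI i k).2 x
  obtain ⟨y, hy⟩ := hl l hkl x'
  refine ⟨(ν.app (qn I M l)).hom y, ?_⟩
  refine (ConcreteCategory.congr_hom (ν.naturality (qT I M (hk.trans hkl))) y).symm.trans ?_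
  refine (congrArg (ν.app (qn I M n)).hom hy).trans ?_
  exact ConcreteCategory.congr_hom (ν.naturality (qT I M hk)) x'

theorem surjective_shift_of_fML {J : Ideal A} [DRing.HasRgammaI J] [HasProduct fun n => (Φ J).obj (sF.obj (Mq I M n))]
    {i : ℕ} (h : FML (ab (localCohomology J i)) I M) :
    Function.Surjective ((hF A (i : ℤ)).map (shiftMap (K := fun n => (Φ J).obj (sF.obj (Mq I M n)))
      fun _ _ h => (Φ J).map (sF.map (mqT I M h)))).hom := by
  intro z
  let e : ∀ n, (hF A (i : ℤ)).obj ((Φ J).obj (sF.obj (Mq I M n))) ≅ (localCohomology J i).obj (Mq I M n) :=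
    fun n => BootDualLib.rgIsoApp J (Mq I M n) i
  let c : ∀ n, (localCohomology J i).obj (Mq I M n) := fun n =>
    (e n).hom.hom (((hF A (i : ℤ)).map (Pi.π (fun n => (Φ J).obj (sF.obj (Mq I M n))) n)).hom z)
  obtain ⟨w, hw⟩ := h.surjective_towerDiff (F := ab (localCohomology J i)) (fun n => c (n + 1))
  have hw' : ∀ n, (show (localCohomology J i).obj (Mq I M (n + 1)) from w n) -
      ((localCohomology J i).map (mqT I M (Nat.le_succ (n + 1)))).hom (w (n + 1)) = c (n + 1) := fun n => by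
    rw [← qt_eq]
    exact congrFun hw n
  let W : ∀ n, (localCohomology J i).obj (Mq I M n) := fun n =>
    n.casesOn (c 0 + ((localCohomology J i).map (mqT I M (Nat.le_succ 0))).hom (w 0)) fun k => w k
  have hW : ∀ n, W n - ((localCohomology J i).map (mqT I M (Nat.le_succ n))).hom (W (n + 1)) = c n := fun n => by
    cases n with
    | zero => exact add_sub_cancel_right _ _
    | succ n => exact hw' n
  obtain ⟨y, hy⟩ := BootDualLib.exists_hF_pi (K := fun n => (Φ J).obj (sF.obj (Mq I M n))) (i : ℤ)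
    fun n => (e n).inv.hom (W n)
  refine ⟨y, sub_eq_zero.1 (BootDualLib.hF_pi_eq_zero _ _ fun n => ?_)⟩
  rw [map_sub, BootDualLib.hF_shiftMap_π, hy, hy, sub_eq_zero]
  refine (e n).toLinearEquiv.injective ?_
  show (e n).hom.hom (_ - _) = c n
  rw [map_sub, ← hW n]
  refine congrArg₂ (· - ·) ((e n).inv_hom_id_apply _) ?_
  refine (ConcreteCategory.congr_hom (BootDualLib.rgIsoApp_natural J (mqT I M (Nat.le_succ n)) i) _).trans ?_
  exact congrArg ((localCohomology J i).map (mqT I M (Nat.le_succ n))).hom ((e (n + 1)).inv_hom_id_apply _)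

variable [DRing.HasDerivedCompletion I]

/-- If derived completion does not change `H^j_J M`, it is the limit of `H^j_J (M / I^n M)`. -/
theorem fBij_lc_of_completion (J : Ideal A) [DRing.HasRgammaI J] (j : ℕ)
    (hbij : Function.Bijective ((hF A (j : ℤ)).map
      (DRing.toDerivedCompletion I ((DRing.RgammaI J).obj (Dual.inD A M)))).hom)
    (hml : ∀ i : ℕ, i + 1 = j → FML (ab (localCohomology J i)) I M) :
    FBij (ab (localCohomology J j)) I M := by
  haveI := fun K : ℕ → Dual.D A => BootDualLib.hasProduct_nat K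
  obtain ⟨l, hl⟩ := DRingLib.exists_list_span' J
  obtain ⟨L, q, a, c, hL, hqa, hq⟩ := BootDualLib.exists_rlim J l hl I M
  obtain ⟨e, he⟩ := exists_iso_cF hq
  have hqb : Function.Bijective ((hF A (j : ℤ)).map q).hom := by
    have h1 := congr($((hF A (j : ℤ)).congr_map he).hom)
    rw [Functor.map_comp, ModuleCat.hom_comp] at h1
    have h2 : Function.Bijective (((hF A (j : ℤ)).map e.hom).hom.comp ((hF A (j : ℤ)).map q).hom) := h1 ▸ hbij
    exact (Function.Bijective.of_comp_iff' ((hF A (j : ℤ)).mapIso e).toLinearEquiv.bijective _).1 h2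
  have hs : Function.Surjective ((hF A ((j : ℤ) - 1)).map
      (shiftMap (K := fun n => (Φ J).obj (sF.obj (Mq I M n))) fun _ _ h => (Φ J).map (sF.map (mqT I M h)))).hom := by
    cases j with
    | zero =>
      intro z
      refine ⟨0, sub_eq_zero.1 (BootDualLib.hF_pi_eq_zero _ _ fun n => ?_)⟩
      haveI := ModuleCat.subsingleton_of_isZero (BootDualLib.isZero_hF_RgammaI_neg J (Mq I M n) (((0 : ℕ) : ℤ) - 1) (by omega))
      exact Subsingleton.elim _ _
    | succ i =>
      rw [show ((i + 1 : ℕ) : ℤ) - 1 = (i : ℤ) by omega]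
      exact surjective_shift_of_fML (hml i rfl)
  let R := BootDualLib.rgIsoApp J
  haveI : (localCohomology J j).PreservesZeroMorphisms := (LocCohLib.lcDelta J).preservesZero j
  refine fBij_of_mq (localCohomology J j) (fun x hx => ?_) (fun y hy => ?_)
  · have h0 := BootDualLib.eq_zero_of_rlim (K := fun n => (Φ J).obj (sF.obj (Mq I M n))) _ hL q
      (fun n => (Φ J).map (sF.map (mqπ I M n))) hqa (j : ℤ) hs hqb.1
      ((R (ModuleCat.of A M) j).inv.hom x) fun n => by
        refine (R (Mq I M n) j).toLinearEquiv.injective ?_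
        refine (ConcreteCategory.congr_hom (BootDualLib.rgIsoApp_natural J (mqπ I M n) j) _).trans ?_
        refine Eq.trans ?_ ((hx n).trans (map_zero _).symm)
        exact congrArg ((localCohomology J j).map (mqπ I M n)).hom ((R (ModuleCat.of A M) j).inv_hom_id_apply x)
    exact ((R (ModuleCat.of A M) j).inv_hom_id_apply x).symm.trans ((congrArg _ h0).trans (map_zero _))
  · obtain ⟨x, hx⟩ := BootDualLib.exists_of_rlim (K := fun n => (Φ J).obj (sF.obj (Mq I M n))) _ hL q
      (fun n => (Φ J).map (sF.map (mqπ I M n))) hqa (j : ℤ) hqb.2 (fun n => (R (Mq I M n) j).inv.hom (y n))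
      fun n => by
        refine (R (Mq I M n) j).toLinearEquiv.injective ?_
        refine (ConcreteCategory.congr_hom (BootDualLib.rgIsoApp_natural J (mqT I M (Nat.le_succ n)) j) _).trans ?_
        refine Eq.trans ?_ ((hy n).trans ((R (Mq I M n) j).inv_hom_id_apply (y n)).symm)
        exact congrArg ((localCohomology J j).map (mqT I M (Nat.le_succ n))).hom
          ((R (Mq I M (n + 1)) j).inv_hom_id_apply _)
    refine ⟨(R (ModuleCat.of A M) j).hom.hom x, fun n => ?_⟩
    refine (ConcreteCategory.congr_hom (BootDualLib.rgIsoApp_natural J (mqπ I M n) j) x).symm.trans ?_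
    exact (congrArg (R (Mq I M n) j).hom.hom (hx n)).trans ((R (Mq I M n) j).inv_hom_id_apply (y n))

end FormalPunctLib

end
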