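import Groth.Agent.FormalPunctLib.Bridge
import Groth.Agent.FormalPunctLib.LocalLim
import Groth.Agent.FormalPunctLib.Completion
import Groth.Agent.BootDualLib.Descent
import Groth.Agent.DRingLib.RgammaCompletion
import Groth.Agent.S8797
import Groth.Agent.KoszLib.Inj

/-! Cohomology of formal neighbourhoods of punctured spectra. -/

set_option autoImplicit false
set_option linter.style.haveILetI false
set_option maxHeartbeats 1000000
universe u

noncomputable section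

open CategoryTheory AlgebraicGeometry
open Groth.Agent

attribute [local instance] HasDerivedCategory.standard

namespace FormalPunctLib

variable {A : Type u} [CommRing A] [IsNoetherianRing A] (I 𝔞 : Ideal A) (d : ℕ) (M : Type u) [AddCommGroup M]
  [Module A M] [Module.Finite A M]

/-- The depth hypothesis at level `s`. -/
def Hyp (s : ℕ) : Prop :=
  ∀ (p : Ideal A) [p.IsPrime], ¬ 𝔞 ≤ p → ¬ I ≤ p →
    (s : ℕ∞) < LocCoh.depth (Localization.AtPrime p) (LocalizedModule p.primeCompl M) ∨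
      ∀ (q : Ideal A) [q.IsPrime], p ≤ q → 𝔞 ≤ q →
        ((d + s + 1 : ℕ) : WithBot ℕ∞) <
          ((LocCoh.depth (Localization.AtPrime p) (LocalizedModule p.primeCompl M) : ℕ∞) : WithBot ℕ∞) +
            Formal2.dimBetween A p q

variable {I 𝔞 d M} {s : ℕ}

theorem lt_of_succ_lt {x : WithBot ℕ∞} (h : ((d + s + 1 : ℕ) : WithBot ℕ∞) < x) :
    ((d + s : ℕ) : WithBot ℕ∞) < x :=
  lt_of_le_of_lt (Nat.cast_le.2 (Nat.le_succ (d + s))) h

theorem proZero_of_hyp (hI : I ≤ 𝔞) {ω : Dual.D A} (hω : Dual.IsDualizing A ω) (hd : LocCoh.CdLE A I d)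
    (h : Hyp I 𝔞 d M s) (i : ℕ) (hi : i ≤ s + 1) :
    BootDualLib.ProZero I M (PrimeSpectrum.zeroLocus (𝔞 : Set A)) i := by
  have h4 : BootDualLib.Cond4 I M (PrimeSpectrum.zeroLocus (𝔞 : Set A)) s d := by
    intro p r q hpr hrq hIp _ hr hq
    rcases h p.asIdeal (fun hp => hr (hp.trans hpr)) hIp with h | h
    · exact Or.inl h.le
    · exact Or.inr (lt_of_succ_lt (h q.asIdeal (hpr.trans hrq) hq))
  have h6 : BootDualLib.Cond6 I M (PrimeSpectrum.zeroLocus (𝔞 : Set A)) s :=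
    Groth.Agent.S8797.result A ⟨ω, hω⟩ I 𝔞 hI d hd M s (fun p q hpq hIp hq => by
      rcases h p.asIdeal (fun hp => hIp (hI.trans hp)) hIp with h | h
      · exact Or.inl h
      · exact Or.inr (lt_of_succ_lt (h q.asIdeal hpq hq))) _ rfl
  exact fun n => BootDualLib.exists_map_incl_HT_eq_zero hω (PrimeSpectrum.zeroLocus_anti_mono hI) h4 h6 hd
    (fun p q hpq hp => (PrimeSpectrum.isClosed_zeroLocus _).stableUnderSpecialization hpq hp) i hi n

theorem fBij_self (hI : I ≤ 𝔞) {ω : Dual.D A} (hω : Dual.IsDualizing A ω) (hd : LocCoh.CdLE A I d)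
    (h : Hyp I 𝔞 d M s) (i : ℕ) (hi : i ≤ s) : FBij (LC 𝔞 i) I M :=
  fBij_lc_of_proZero 𝔞 (proZero_of_hyp hI hω hd h i (by omega)) (proZero_of_hyp hI hω hd h (i + 1) (by omega))

theorem fML_self (hI : I ≤ 𝔞) {ω : Dual.D A} (hω : Dual.IsDualizing A ω) (hd : LocCoh.CdLE A I d)
    (h : Hyp I 𝔞 d M s) (i : ℕ) (hi : i ≤ s) : FML (LC 𝔞 i) I M :=
  fML_lc_of_proZero 𝔞 (proZero_of_hyp hI hω hd h (i + 1) (by omega))

variable [IsAdicComplete I A]

theorem formalCohBijective_of_lc {J : Ideal A} (t : ℕ) (hb : ∀ j, j ≤ t → FBij (LC J j) I M)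
    (hm : ∀ j, j < t → FML (LC J j) I M) (i : ℕ) (hi : i < t) :
    Formal2.FormalCohBijective A I M i (LocCoh.puncturedOpen A J) := by
  rcases Nat.eq_zero_or_pos i with rfl | h
  · exact formalCohBijective_punct_zero (hb 0 (by omega)) (hb 1 hi) (hm 0 hi)
  · exact formalCohBijective_punct_pos i h (hb (i + 1) hi)

/-- Bijectivity in degrees below `s`. -/
theorem formalCohBijective_lt (hI : I ≤ 𝔞) {ω : Dual.D A} (hω : Dual.IsDualizing A ω) (hd : LocCoh.CdLE A I d)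
    (h : Hyp I 𝔞 d M s) (i : ℕ) (hi : i < s) :
    Formal2.FormalCohBijective A I M i (LocCoh.puncturedOpen A 𝔞) :=
  formalCohBijective_of_lc s (fBij_self hI hω hd h) (fun j hj => fML_self hI hω hd h j hj.le) i hi

/-- Bijectivity below a small ideal, one degree more. -/
theorem exists_ideal_bijective (hI : I ≤ 𝔞) {ω : Dual.D A} (hω : Dual.IsDualizing A ω) (hd : LocCoh.CdLE A I d)
    (h : Hyp I 𝔞 d M s) :
    ∃ J₀ : Ideal A, J₀ ≤ 𝔞 ∧ (∀ q : PrimeSpectrum A, J₀ ≤ q.asIdeal → I ≤ q.asIdeal → 𝔞 ≤ q.asIdeal) ∧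
      ∀ J : Ideal A, J ≤ J₀ → (∀ q : PrimeSpectrum A, J ≤ q.asIdeal → I ≤ q.asIdeal → 𝔞 ≤ q.asIdeal) →
        ∀ i, i ≤ s → Formal2.FormalCohBijective A I M i (LocCoh.puncturedOpen A J) := by
  haveI : DRing.HasDerivedCompletion I := DCompLib.hasDerivedCompletion (IsNoetherian.noetherian I)
  obtain ⟨J₀, hJ₀, hV₀, hJ⟩ := exists_ideal_completion I hω 𝔞 M (s + 1) d hd fun p hIp hr q hpq hq => by
    obtain ⟨r, hpr, -, hr⟩ := hr
    rcases h p.asIdeal (fun hp => hr (hp.trans hpr)) hIp with h | h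
    · exact Or.inl (by exact_mod_cast Order.add_one_le_of_lt h)
    · exact Or.inr (h q.asIdeal hpq hq)
  refine ⟨J₀, hJ₀, fun q h1 h2 => ((Set.ext_iff.1 hV₀ q).1 ⟨h1, h2⟩).1, fun J hJJ hJI i hi => ?_⟩
  haveI : DRing.HasRgammaI J :=
    DerLib.KInjDerived.hasRightDerivedFunctor _ (DerLib.KInjDerived.enoughKInj _)
  have hVJ : PrimeSpectrum.zeroLocus (J : Set A) ∩ PrimeSpectrum.zeroLocus (I : Set A) =
      PrimeSpectrum.zeroLocus (𝔞 : Set A) ∩ PrimeSpectrum.zeroLocus (I : Set A) := by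
    ext q
    exact ⟨fun ⟨h1, h2⟩ => ⟨hJI q h1 h2, h2⟩, fun ⟨h1, h2⟩ => ⟨fun x hx => h1 (hJ₀ (hJJ hx)), h2⟩⟩
  have hm : ∀ j, j ≤ s → FML (LC J j) I M := fun j hj =>
    fML_lc_of_le hω (hJJ.trans hJ₀) hJI (fML_self hI hω hd h j hj)
  refine formalCohBijective_of_lc (s + 1) (fun j hj => ?_) (fun j hj => hm j (by omega)) i (by omega)
  exact fBij_lc_of_completion J j (hJ J hJJ hVJ (j : ℤ) (by exact_mod_cast hj)) fun k hk => hm k (by omega)

omit [IsNoetherianRing A] [IsAdicComplete I A] [Module.Finite A M] in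
theorem HVres_HVmap {N : Type u} [AddCommGroup N] [Module A N] (φ : M →ₗ[A] N) (i : ℕ)
    {V V' : (Spec (CommRingCat.of A)).Opens} (h : V' ≤ V) (x : Formal2.HV A M i V) :
    Formal2.HVres A N i h (Formal2.HVmap A φ i V x) = Formal2.HVmap A φ i V' (Formal2.HVres A M i h x) :=
  (ConcreteCategory.congr_hom
    (((Sheaf.cohomologyPresheafFunctor _ i).map ((SheafOfModules.toSheaf _).map (Formal2.tmodMap A φ))).naturality
      (homOfLE h).op) x).symm

omit [IsNoetherianRing A] in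
theorem punct_le_punct {J J' : Ideal A} (h : J ≤ J') : LocCoh.puncturedOpen A J ≤ LocCoh.puncturedOpen A J' :=
  fun _ hx hJ' => hx (fun _ ha => hJ' (h ha))

omit [Module.Finite A M] [IsAdicComplete I A] in
theorem exists_admissible_punct (hI : I ≤ 𝔞) {J₀ : Ideal A} (hJ₀ : J₀ ≤ 𝔞)
    (hJ₀I : ∀ q : PrimeSpectrum A, J₀ ≤ q.asIdeal → I ≤ q.asIdeal → 𝔞 ≤ q.asIdeal)
    (V : (Spec (CommRingCat.of A)).Opens) (hV : Formal2.Admissible A I (LocCoh.puncturedOpen A 𝔞) V) :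
    ∃ J : Ideal A, J ≤ J₀ ∧ (∀ q : PrimeSpectrum A, J ≤ q.asIdeal → I ≤ q.asIdeal → 𝔞 ≤ q.asIdeal) ∧
      LocCoh.puncturedOpen A J ≤ V ∧
      Formal2.Admissible A I (LocCoh.puncturedOpen A 𝔞) (LocCoh.puncturedOpen A J) := by
  obtain ⟨fs, rfl⟩ := KoszLib.exists_list_eq_puncturedOpen A V
  have hJI : ∀ q : PrimeSpectrum A, J₀ * Ideal.span {a | a ∈ fs} ≤ q.asIdeal → I ≤ q.asIdeal → 𝔞 ≤ q.asIdeal := by
    intro q hq hIq
    rcases q.isPrime.mul_le.1 hq with h | h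
    · exact hJ₀I q h hIq
    · by_contra ha
      exact hV.2 q ha hIq h
  refine ⟨J₀ * Ideal.span {a | a ∈ fs}, Ideal.mul_le_left, hJI, punct_le_punct Ideal.mul_le_right,
    (punct_le_punct Ideal.mul_le_left).trans (punct_le_punct hJ₀), ?_⟩
  intro p hp hIp hJp
  exact hp (hJI p hJp hIp)

/-- Bijectivity from the colimit in degree `s`. -/
theorem formalCohColimBijective (hI : I ≤ 𝔞) {ω : Dual.D A} (hω : Dual.IsDualizing A ω) (hd : LocCoh.CdLE A I d)
    (h : Hyp I 𝔞 d M s) :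
    Formal2.FormalCohColimBijective A I M s (LocCoh.puncturedOpen A 𝔞) := by
  obtain ⟨J₀, hJ₀, hJ₀I, hb⟩ := exists_ideal_bijective hI hω hd h
  refine ⟨fun V hV x hx => ?_, fun y hy => ?_⟩
  · obtain ⟨J, hJ, hJI, hJV, hJa⟩ := exists_admissible_punct hI hJ₀ hJ₀I V hV
    refine ⟨LocCoh.puncturedOpen A J, ⟨hJa, hJV⟩, ?_⟩
    refine (hb J hJ hJI s le_rfl).1 _ 0 fun n => ?_
    rw [map_zero, ← HVres_HVmap, hx n, map_zero]
  · have hU : Formal2.Admissible A I (LocCoh.puncturedOpen A 𝔞) (LocCoh.puncturedOpen A J₀) :=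
      ⟨punct_le_punct hJ₀, fun p hp hIp hJp => hp (hJ₀I p hJp hIp)⟩
    obtain ⟨x, hx⟩ := (hb J₀ le_rfl hJ₀I s le_rfl).2
      (fun n => Formal2.HVres A (Formal2.quotPow A I M n) s hU.1 (y n)) fun n => by
        rw [← HVres_HVmap, hy n]
    exact ⟨_, hU, x, fun n => (hx n).symm⟩

end FormalPunctLib

end
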