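import Groth.Agent.FormalPunctLib.Main
import Groth.Agent.LocCohLib.Finiteness

/-! The principal case: local cohomology killed by a power of the element. -/

set_option autoImplicit false
set_option linter.style.haveILetI false
set_option maxHeartbeats 1000000
universe u

noncomputable section

open CategoryTheory AlgebraicGeometry
open Groth.Agent LocCohLib

attribute [local instance] HasDerivedCategory.standard

namespace FormalPunctLib

variable {A : Type u} [CommRing A] [IsNoetherianRing A] (𝔞 : Ideal A) (f : A) (M : Type u) [AddCommGroup M]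
  [Module A M] [Module.Finite A M]

omit [Module.Finite A M] in
theorem mem_pow_smul {n : ℕ} {x : M} :
    x ∈ (Ideal.span {f} ^ n • ⊤ : Submodule A M) ↔ ∃ m, f ^ n • m = x := by
  rw [Ideal.span_singleton_pow, Submodule.ideal_span_singleton_smul]
  exact ⟨fun ⟨m, _, h⟩ => ⟨m, h⟩, fun ⟨m, h⟩ => ⟨m, trivial, h⟩⟩

theorem exists_pow_smul_H_zero (hf : f ∈ 𝔞) : ∃ n : ℕ, ∀ x : LocCoh.H 𝔞 0 M, f ^ n • x = 0 := by
  haveI : Module.Finite A (DRing.torsionSub 𝔞 M) :=
    Module.Finite.of_fg (IsNoetherian.noetherian _)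
  obtain ⟨k, hk⟩ := IdealTransLib.exists_pow_smul_range (I := 𝔞) (DRing.torsionSub 𝔞 M).subtype ⊥ (fun x => by
    obtain ⟨t, ht⟩ := x.2
    exact ⟨t, fun a ha => (Submodule.mem_bot A).2 (ht a ha)⟩)
  refine ⟨k, fun x => (H0Equiv (I := 𝔞) M).injective (Subtype.ext ?_)⟩
  rw [map_smul, map_zero]
  exact (Submodule.mem_bot A).1 (hk _ _ (Ideal.pow_mem_pow hf k))

theorem proZero_of_killed {i : ℕ} (h : ∃ n : ℕ, ∀ x : LocCoh.H 𝔞 i M, f ^ n • x = 0) :
    BootDualLib.ProZero (Ideal.span {f}) M (PrimeSpectrum.zeroLocus (𝔞 : Set A)) i := by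
  let I := Ideal.span {f}
  obtain ⟨N, hN⟩ := h
  obtain ⟨c, hc⟩ := monotone_stabilizes_iff_noetherian.2 (inferInstance : IsNoetherian A M)
    ⟨fun n => LinearMap.ker (f ^ n • (LinearMap.id : M →ₗ[A] M)), fun a b hab x hx => by
      rw [LinearMap.mem_ker] at hx ⊢
      obtain ⟨e, rfl⟩ := Nat.exists_eq_add_of_le hab
      show f ^ (a + e) • x = 0
      rw [show f ^ (a + e) = f ^ e * f ^ a by rw [← pow_add, add_comm], mul_smul,
        show f ^ a • x = 0 from hx, smul_zero]⟩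
  have hstab : ∀ (n : ℕ) (m : M), c ≤ n → f ^ n • m = 0 → f ^ c • m = 0 := fun n m hn h0 =>
    (hc n hn).ge (show m ∈ LinearMap.ker (f ^ n • (LinearMap.id : M →ₗ[A] M)) from h0)
  -- the map `m ↦ f^n m`
  let p : ∀ n, M →ₗ[A] ↥(I ^ n • ⊤ : Submodule A M) := fun n => (f ^ n • (LinearMap.id : M →ₗ[A] M)).codRestrict _
    fun m => (mem_pow_smul f M).2 ⟨m, rfl⟩
  have hp : ∀ n, Function.Surjective (p n) := fun n ⟨x, hx⟩ => by
    obtain ⟨m, rfl⟩ := (mem_pow_smul f M).1 hx
    exact ⟨m, rfl⟩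
  -- a uniform power kills `H^i (f^n M)`
  have hkill : ∀ n, c ≤ n → ∀ y : (localCohomology 𝔞 i).obj (BootDualLib.pw I M n), f ^ (N + c) • y = 0 := by
    intro n hn y
    let S := ShortComplex.mk (ModuleCat.ofHom (LinearMap.ker (p n)).subtype)
      (ModuleCat.ofHom (p n) : ModuleCat.of A M ⟶ BootDualLib.pw I M n)
      (ModuleCat.hom_ext (LinearMap.ext fun v => v.2))
    have hS : S.ShortExact :=
      shortExact_of Subtype.val_injective (LinearMap.exact_subtype_ker_map (p n)) (hp n)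
    have hker : (f ^ c • 𝟙 S.X₁) = 0 := ModuleCat.hom_ext (LinearMap.ext fun v => Subtype.ext
      (hstab n v.1 hn (congrArg Subtype.val (LinearMap.mem_ker.1 v.2))))
    have h1 : ∀ w : (localCohomology 𝔞 (i + 1)).obj S.X₁, f ^ c • w = 0 := fun w => by
      have e := LocCohLib.map_smul_id (I := 𝔞) (f ^ c) (i + 1) S.X₁
      haveI : (localCohomology 𝔞 (i + 1)).PreservesZeroMorphisms := (lcDelta 𝔞).preservesZero (i + 1)
      rw [hker] at e
      have e' : (f ^ c • 𝟙 ((localCohomology 𝔞 (i + 1)).obj S.X₁)) = 0 :=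
        e.symm.trans ((localCohomology 𝔞 (i + 1)).map_zero _ _)
      exact congr($(e').hom w)
    have h2 : ((lcDelta 𝔞).δ hS i).hom (f ^ c • y) = 0 :=
      (((lcDelta 𝔞).δ hS i).hom.map_smul (f ^ c) y).trans (h1 _)
    obtain ⟨x, hx⟩ := (ShortComplex.moduleCat_exact_iff _).1 ((lcDelta 𝔞).exact₃ hS i) _ h2
    rw [pow_add, mul_smul, ← hx]
    exact ((((lcDelta 𝔞).F i).map S.g).hom.map_smul (f ^ N) x).symm.trans
      ((congrArg (((lcDelta 𝔞).F i).map S.g).hom (hN x)).trans (map_zero _))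
  let e := htLcIso 𝔞 i
  intro n
  set n' := max n c with hn'
  have hn : n ≤ n' + (N + c) := (le_max_left n c).trans (Nat.le_add_right _ _)
  refine ⟨n' + (N + c), hn, fun x => ?_⟩
  let g : ↥(I ^ n' • ⊤ : Submodule A M) →ₗ[A] ↥(I ^ (n' + (N + c)) • ⊤ : Submodule A M) :=
    ((f ^ (N + c) • LinearMap.id : M →ₗ[A] M) ∘ₗ (I ^ n' • ⊤ : Submodule A M).subtype).codRestrict _ (by
      rintro ⟨v, hv⟩
      obtain ⟨m, rfl⟩ := (mem_pow_smul f M).1 hv
      refine (mem_pow_smul f M).2 ⟨m, ?_⟩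
      show _ = f ^ (N + c) • f ^ n' • m
      rw [smul_smul, ← pow_add, add_comm])
  have hginj : Function.Injective g := by
    rw [injective_iff_map_eq_zero]
    rintro ⟨v, hv⟩ h0
    obtain ⟨m, rfl⟩ := (mem_pow_smul f M).1 hv
    have h1 : f ^ (N + c) • f ^ n' • m = 0 := congrArg Subtype.val h0
    rw [smul_smul, ← pow_add] at h1
    refine Subtype.ext ?_
    show f ^ n' • m = 0
    obtain ⟨d, hd⟩ := Nat.exists_eq_add_of_le (le_max_right n c)
    rw [show n' = d + c by omega, pow_add, mul_smul, hstab _ m (by omega) h1, smul_zero]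
  have hgsurj : Function.Surjective g := fun ⟨v, hv⟩ => by
    obtain ⟨m, rfl⟩ := (mem_pow_smul f M).1 hv
    refine ⟨⟨f ^ n' • m, (mem_pow_smul f M).2 ⟨m, rfl⟩⟩, Subtype.ext ?_⟩
    show f ^ (N + c) • f ^ n' • m = _
    rw [smul_smul, ← pow_add, add_comm]
  let gI : BootDualLib.pw I M n' ≅ BootDualLib.pw I M (n' + (N + c)) :=
    (LinearEquiv.ofBijective g ⟨hginj, hgsurj⟩).toModuleIso
  let H := BootDualLib.HTf (PrimeSpectrum.zeroLocus (𝔞 : Set A)) i
  obtain ⟨y, rfl⟩ := (H.mapIso gI).toLinearEquiv.surjective x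
  have hcomp : gI.hom ≫ BootDualLib.incl I M hn =
      (f ^ (N + c) • 𝟙 (BootDualLib.pw I M n')) ≫ BootDualLib.incl I M (le_max_left n c) := rfl
  refine (congr($(H.map_comp gI.hom (BootDualLib.incl I M hn)).hom y)).symm.trans ?_
  rw [hcomp, Functor.map_comp]
  have h0 : (H.map (f ^ (N + c) • 𝟙 (BootDualLib.pw I M n'))).hom y = 0 := by
    refine (e.app _).toLinearEquiv.injective (Eq.trans ?_ (map_zero _).symm)
    refine (ConcreteCategory.congr_hom (e.hom.naturality (f ^ (N + c) • 𝟙 (BootDualLib.pw I M n'))) y).trans ?_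
    rw [LocCohLib.map_smul_id]
    exact hkill n' (le_max_right n c) _
  exact (congrArg (H.map (BootDualLib.incl I M (le_max_left n c))).hom h0).trans (map_zero _)

variable [IsAdicComplete (Ideal.span {f}) A] {f M}

theorem formalCohBijective_of_killed {s : ℕ}
    (h : ∀ i : ℕ, i ≤ s + 1 → ∃ n : ℕ, ∀ x : LocCoh.H 𝔞 i M, f ^ n • x = 0) (i : ℕ) (hi : i < s) :
    Formal2.FormalCohBijective A (Ideal.span {f}) M i (LocCoh.puncturedOpen A 𝔞) :=
  formalCohBijective_of_lc s
    (fun j hj => fBij_lc_of_proZero 𝔞 (proZero_of_killed 𝔞 f M (h j (by omega)))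
      (proZero_of_killed 𝔞 f M (h (j + 1) (by omega))))
    (fun j hj => fML_lc_of_proZero 𝔞 (proZero_of_killed 𝔞 f M (h (j + 1) (by omega)))) i hi

end FormalPunctLib

end
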