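import Groth.Agent.FormalPunctLib.Conn
import Mathlib.RingTheory.Nakayama

/-! Formal sections along a regular element, algebraized near the special fibre. -/

set_option autoImplicit false
set_option linter.style.haveILetI false
set_option maxHeartbeats 1000000
universe u

noncomputable section

open CategoryTheory AlgebraicGeometry TopologicalSpace Opposite
open Groth.Agent

attribute [local instance] HasDerivedCategory.standard

namespace FormalPunctLib

variable {A : Type u} [CommRing A] [IsNoetherianRing A] {𝔞 : Ideal A} (I : Ideal A) (M : Type u) [AddCommGroup M]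
  [Module A M] [Module.Finite A M]

/-- Sections with zero images die near the special fibre. -/
theorem colim_injective (hI : I ≤ 𝔞) (V : (Spec (CommRingCat.of A)).Opens)
    (hV : Formal2.Admissible A I (LocCoh.puncturedOpen A 𝔞) V) (x : Formal2.HV A M 0 V)
    (hx : ∀ n, Formal2.HVmap A (Formal2.quotPowπ A I M n) 0 V x = 0) :
    ∃ (V' : (Spec (CommRingCat.of A)).Opens) (h : Formal2.Admissible A I (LocCoh.puncturedOpen A 𝔞) V' ∧ V' ≤ V),
      Formal2.HVres A M 0 h.2 x = 0 := by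
  obtain ⟨J, hJ, hJI, hJV, hJa⟩ := exists_admissible_punct hI le_rfl (fun q h _ => h) V hV
  let z : PSec J (ModuleCat.of A M) := secEquiv J (ModuleCat.of A M) (Formal2.HVres A M 0 hJV x)
  have hz : ∀ n, pmap J (qπ I M n) z = 0 := fun n => by
    refine (secEquiv_natural J (qπ I M n) _).symm.trans ?_
    refine (congrArg (secEquiv J (qn I M n)) (HVres_HVmap (Formal2.quotPowπ A I M n) 0 hJV x).symm).trans ?_
    rw [hx n, map_zero]
    exact map_zero _
  let K : Ideal A := LinearMap.ker (LinearMap.toSpanSingleton A (PSec J (ModuleCat.of A M)) z)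
  let J' := J * K
  have hJ' : J' ≤ J := Ideal.mul_le_left
  have hJ'I : ∀ q : PrimeSpectrum A, J' ≤ q.asIdeal → I ≤ q.asIdeal → 𝔞 ≤ q.asIdeal := fun q hq hIq => by
    rcases q.isPrime.mul_le.1 hq with h | h
    · exact hJI q h hIq
    · by_contra ha
      obtain ⟨g, hg, hgz⟩ := exists_smul_eq_zero I M q hIq (fun h' => ha (hJI q h' hIq)) z
        fun n => ⟨1, fun h1 => q.isPrime.ne_top ((Ideal.eq_top_iff_one _).2 h1), by rw [hz n, smul_zero]⟩
      exact hg (h (show g ∈ K from hgz))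
  have hle : LocCoh.puncturedOpen A J' ≤ LocCoh.puncturedOpen A J := punct_le_punct hJ'
  refine ⟨LocCoh.puncturedOpen A J', ⟨⟨hle.trans hJa.1, fun p hp hIp hJp => hp (hJ'I p hJp hIp)⟩,
    hle.trans hJV⟩, ?_⟩
  refine (secEquiv J' (ModuleCat.of A M)).injective (Eq.trans ?_ (map_zero _).symm)
  rw [← HVres_res 0 hJV hle]
  refine (QCohLib.h0_res (F := (shF A).obj (ModuleCat.of A M)) (homOfLE hle) _).trans ?_
  show pres hJ' (ModuleCat.of A M) z = 0
  refine eq_zero_of_pow_smul J' _ fun g hg => ⟨1, ?_⟩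
  rw [pow_one, ← map_smul]
  have : g • z = 0 := (show J' ≤ K from Ideal.mul_le_right) hg
  rw [this, map_zero]

variable {I M}

variable (𝔞 I M) in
/-- The formal sections. -/
def FSec : Submodule A (∀ n, PSec 𝔞 (qn I M n)) where
  carrier := {y | ∀ n, pmap 𝔞 (qt I M n) (y (n + 1)) = y n}
  add_mem' {y y'} hy hy' n := by
    show pmap 𝔞 (qt I M n) (y (n + 1) + y' (n + 1)) = y n + y' n
    rw [map_add, hy n, hy' n]
  zero_mem' n := map_zero _
  smul_mem' a y hy n := by
    show pmap 𝔞 (qt I M n) (a • y (n + 1)) = a • y n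
    rw [map_smul, hy n]

theorem mem_FSec {y : ∀ n, PSec 𝔞 (qn I M n)} (hy : y ∈ FSec 𝔞 I M) (n : ℕ) :
    pmap 𝔞 (qt I M n) (y (n + 1)) = y n := hy n

variable (𝔞 I M) in
/-- The map from the module. -/
def fη : M →ₗ[A] FSec 𝔞 I M where
  toFun m := ⟨fun n => pto 𝔞 (qn I M n) ((qπ I M n).hom m), fun n => by
    show pmap 𝔞 (qt I M n) _ = _
    rw [pmap_pto]
    exact congrArg (pto 𝔞 (qn I M n)) (qt_apply I M n m)⟩
  map_add' m m' := Subtype.ext (funext fun n => by
    show pto 𝔞 _ _ = pto 𝔞 _ _ + pto 𝔞 _ _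
    rw [map_add, map_add])
  map_smul' a m := Subtype.ext (funext fun n => by
    show pto 𝔞 _ _ = a • pto 𝔞 _ _
    rw [map_smul, map_smul])

theorem fη_apply (m : M) (n : ℕ) : (fη 𝔞 I M m).1 n = pto 𝔞 (qn I M n) ((qπ I M n).hom m) := rfl

section Regular

variable {f : A}

theorem qn_zero_of_mem {n : ℕ} {a : A} (ha : a ∈ I ^ (n + 1)) (v : qn I M n) : a • v = 0 := by
  obtain ⟨v, rfl⟩ := Submodule.Quotient.mk_surjective _ v
  rw [← Submodule.Quotient.mk_smul, Submodule.Quotient.mk_eq_zero]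
  exact Submodule.smul_mem_smul ha Submodule.mem_top

theorem psec_smul_eq_zero {n : ℕ} {a : A} (ha : a ∈ I ^ (n + 1)) (s : PSec 𝔞 (qn I M n)) : a • s = 0 := by
  refine eq_zero_of_pow_smul 𝔞 _ fun g hg => ?_
  obtain ⟨k, v, hv⟩ := exists_pow_smul_eq_pto 𝔞 (qn I M n) hg s
  exact ⟨k, by rw [smul_comm, hv, ← map_smul, qn_zero_of_mem ha, map_zero]⟩

/-- Multiplication by `f` from one level to the next. -/
def mulF (hIf : I = Ideal.span {f}) (n : ℕ) : qn I M n ⟶ qn I M (n + 1) :=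
  ModuleCat.ofHom (Submodule.mapQ _ _ (f • (LinearMap.id : M →ₗ[A] M)) (by
    intro x hx
    show f • x ∈ (I ^ (n + 1 + 1) • ⊤ : Submodule A M)
    rw [pow_succ' I (n + 1), Submodule.mul_smul]
    exact Submodule.smul_mem_smul (hIf ▸ Ideal.mem_span_singleton_self f) hx))

theorem mulF_apply (hIf : I = Ideal.span {f}) (n : ℕ) (x : M) :
    (mulF (I := I) (M := M) hIf n).hom ((qπ I M n).hom x) = (qπ I M (n + 1)).hom (f • x) := rfl

/-- `0 → M/I^(n+1) → M/I^(n+2) → M/I → 0`. -/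
theorem mulF_shortExact (hIf : I = Ideal.span {f}) (hreg : IsSMulRegular M f) (n : ℕ)
    (h : mulF (I := I) (M := M) hIf n ≫ qT I M (Nat.zero_le (n + 1)) = 0) :
    (ShortComplex.mk _ _ h).ShortExact := by
  refine LocCohLib.shortExact_of ?_ ?_ ?_
  · rw [injective_iff_map_eq_zero]
    intro v hv
    obtain ⟨x, rfl⟩ := Submodule.Quotient.mk_surjective _ v
    have h1 : f • x ∈ (I ^ (n + 1 + 1) • ⊤ : Submodule A M) := (Submodule.Quotient.mk_eq_zero _).1 hv
    rw [hIf, Ideal.span_singleton_pow, Submodule.ideal_span_singleton_smul] at h1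
    obtain ⟨m, -, hm⟩ := h1
    refine (Submodule.Quotient.mk_eq_zero _).2 ?_
    have h2 : x = f ^ (n + 1) • m := hreg (by
      show f • x = f • f ^ (n + 1) • m
      rw [smul_smul, ← pow_succ']
      exact hm.symm)
    rw [h2]
    exact Submodule.smul_mem_smul (Ideal.pow_mem_pow (hIf ▸ Ideal.mem_span_singleton_self f) _) Submodule.mem_top
  · intro v
    constructor
    · intro hv
      obtain ⟨x, rfl⟩ := Submodule.Quotient.mk_surjective _ v
      have h1 : x ∈ (I ^ (0 + 1) • ⊤ : Submodule A M) := (Submodule.Quotient.mk_eq_zero _).1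
        ((qT_apply I M (Nat.zero_le (n + 1)) x).symm.trans hv)
      rw [hIf, zero_add, pow_one, Submodule.ideal_span_singleton_smul] at h1
      obtain ⟨m, -, hm⟩ := h1
      exact ⟨(qπ I M n).hom m, congrArg (qπ I M (n + 1)).hom hm⟩
    · rintro ⟨w, rfl⟩
      exact ConcreteCategory.congr_hom h w
  · intro v
    obtain ⟨x, rfl⟩ := Submodule.Quotient.mk_surjective _ v
    exact ⟨(qπ I M (n + 1)).hom x, qT_apply I M (Nat.zero_le (n + 1)) x⟩

theorem pmap_comp {N₁ N₂ N₃ : ModuleCat.{u} A} (φ : N₁ ⟶ N₂) (ψ : N₂ ⟶ N₃) (s : PSec 𝔞 N₁) :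
    pmap 𝔞 (φ ≫ ψ) s = pmap 𝔞 ψ (pmap 𝔞 φ s) := by
  refine θ_injective 𝔞 N₃ ?_
  rw [θ_natural, θ_natural, θ_natural]
  exact IdealTransLib.Dmap_comp ψ.hom φ.hom _

theorem pmap_id {N : ModuleCat.{u} A} (s : PSec 𝔞 N) : pmap 𝔞 (𝟙 N) s = s := by
  refine θ_injective 𝔞 N ?_
  rw [θ_natural]
  exact congr($((LocCoh.idealTransform 𝔞).map_id N).hom (θ 𝔞 N s))

theorem pmap_injective {N₁ N₂ : ModuleCat.{u} A} (φ : N₁ ⟶ N₂) (h : Function.Injective φ.hom) :
    Function.Injective (pmap 𝔞 φ) := fun s s' hs => θ_injective 𝔞 N₁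
  (IdealTransLib.Dmap_injective_of_injective (I := 𝔞) h (by rw [← θ_natural, ← θ_natural, hs]))

theorem pmap_exact {N₁ N₂ N₃ : ModuleCat.{u} A} (φ : N₁ ⟶ N₂) (ψ : N₂ ⟶ N₃) (hi : Function.Injective φ.hom)
    (he : Function.Exact φ.hom ψ.hom) (s : PSec 𝔞 N₂) (hs : pmap 𝔞 ψ s = 0) : ∃ t, pmap 𝔞 φ t = s := by
  obtain ⟨w, hw⟩ := (IdealTransLib.exact_Dmap (I := 𝔞) hi he (θ 𝔞 N₂ s)).1 (by rw [← θ_natural, hs, map_zero])
  obtain ⟨t, ht⟩ := θ_surjective 𝔞 N₁ w
  exact ⟨t, θ_injective 𝔞 N₂ (by rw [θ_natural, ht, hw])⟩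

theorem qT_zero_eq (y : FSec 𝔞 I M) (n : ℕ) : pmap 𝔞 (qT I M (Nat.zero_le n)) (y.1 n) = y.1 0 := by
  induction n with
  | zero =>
    rw [qT_self]
    exact pmap_id _
  | succ n ih =>
    rw [← qT_qt I M (Nat.zero_le n), pmap_comp, mem_FSec y.2 n, ih]

/-- An element vanishing at level zero is a multiple of `f`. -/
theorem exists_eq_smul (hIf : I = Ideal.span {f}) (hreg : IsSMulRegular M f) (y : FSec 𝔞 I M)
    (h0 : y.1 0 = 0) : ∃ y' : FSec 𝔞 I M, f • y' = y := by
  have hz : ∀ n, mulF (I := I) (M := M) hIf n ≫ qT I M (Nat.zero_le (n + 1)) = 0 := fun n => by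
    refine ModuleCat.hom_ext (Submodule.linearMap_qext _ (LinearMap.ext fun x => ?_))
    show (qT I M (Nat.zero_le (n + 1))).hom ((qπ I M (n + 1)).hom (f • x)) = 0
    rw [qT_apply]
    refine (Submodule.Quotient.mk_eq_zero _).2 (Submodule.smul_mem_smul ?_ Submodule.mem_top)
    rw [zero_add, pow_one]
    exact hIf ▸ Ideal.mem_span_singleton_self f
  have hS := fun n => mulF_shortExact (I := I) (M := M) hIf hreg n (hz n)
  choose w hw using fun n => pmap_exact (𝔞 := 𝔞) (mulF (I := I) (M := M) hIf n) (qT I M (Nat.zero_le (n + 1)))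
    ((ModuleCat.mono_iff_injective _).1 (hS n).mono_f)
    ((ShortComplex.ShortExact.moduleCat_exact_iff_function_exact _).1 (hS n).exact) (y.1 (n + 1))
    (by rw [qT_zero_eq, h0])
  have hcomm : ∀ n, mulF (I := I) (M := M) hIf (n + 1) ≫ qt I M (n + 1) =
      qt I M n ≫ mulF (I := I) (M := M) hIf n := fun n =>
    ModuleCat.hom_ext (Submodule.linearMap_qext _ (LinearMap.ext fun x =>
      ((qt_apply I M (n + 1) (f • x)).trans (mulF_apply hIf n x).symm).trans
        (congrArg (mulF (I := I) (M := M) hIf n).hom (qt_apply I M n x).symm)))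
  refine ⟨⟨w, fun n => ?_⟩, Subtype.ext (funext fun n => ?_)⟩
  · refine pmap_injective (mulF (I := I) (M := M) hIf n) ((ModuleCat.mono_iff_injective _).1 (hS n).mono_f) ?_
    rw [hw n, ← pmap_comp, ← hcomm, pmap_comp, hw (n + 1)]
    exact mem_FSec y.2 (n + 1)
  · show f • w n = y.1 n
    have hfac : mulF (I := I) (M := M) hIf n ≫ qt I M n = f • 𝟙 (qn I M n) :=
      ModuleCat.hom_ext (Submodule.linearMap_qext _ (LinearMap.ext fun x =>
        (qt_apply I M n (f • x)).trans (map_smul (qπ I M n).hom f x)))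
    refine θ_injective 𝔞 _ ?_
    rw [← mem_FSec y.2 n, ← hw n, ← pmap_comp, hfac, θ_natural, map_smul]
    obtain ⟨t, φ, hφ⟩ := IdealTransLib.exists_mk (θ 𝔞 (qn I M n) (w n))
    rw [← hφ, IdealTransLib.Dmap_mk, ← map_smul]
    rfl

variable [IsAdicComplete I A]

theorem finite_FSec (hIf : I = Ideal.span {f}) (hreg : IsSMulRegular M f)
    (hfin : Module.Finite A (LocCoh.H 𝔞 1 (M ⧸ (I • ⊤ : Submodule A M)))) :
    Module.Finite A (FSec 𝔞 I M) := by
  have hpow : (I ^ (0 + 1) • ⊤ : Submodule A M) = I • ⊤ := by rw [zero_add, pow_one]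
  haveI : Module.Finite A (LocCoh.H 𝔞 1 (Formal2.quotPow A I M 0)) :=
    Module.Finite.equiv ((localCohomology 𝔞 1).mapIso (Submodule.quotEquivOfEq _ _ hpow.symm).toModuleIso).toLinearEquiv
  haveI : Module.Finite A (LocCoh.DT 𝔞 (qn I M 0) ⧸ LinearMap.range (LocCoh.toDT 𝔞 (qn I M 0))) :=
    Module.Finite.equiv (IdealTransLib.cokerEquiv (I := 𝔞) (Formal2.quotPow A I M 0)).symm
  haveI : Module.Finite A (LocCoh.DT 𝔞 (qn I M 0)) :=
    Module.Finite.of_submodule_quotient (LinearMap.range (LocCoh.toDT 𝔞 (qn I M 0)))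
  haveI : Module.Finite A (PSec 𝔞 (qn I M 0)) :=
    Module.Finite.equiv (LinearEquiv.ofBijective (θ 𝔞 (qn I M 0)) ⟨θ_injective 𝔞 _, θ_surjective 𝔞 _⟩).symm
  let p : FSec 𝔞 I M →ₗ[A] PSec 𝔞 (qn I M 0) := LinearMap.proj 0 ∘ₗ (FSec 𝔞 I M).subtype
  obtain ⟨S, hS⟩ := (inferInstance : IsNoetherian A (PSec 𝔞 (qn I M 0))).noetherian (LinearMap.range p)
  have hmem : ∀ s : S, (s : PSec 𝔞 (qn I M 0)) ∈ LinearMap.range p := fun s => hS ▸ Submodule.subset_span s.2
  choose g hg using hmem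
  let L : (S → A) →ₗ[A] FSec 𝔞 I M := Fintype.linearCombination A g
  have hstep : ∀ y : FSec 𝔞 I M, ∃ (a : S → A) (y' : FSec 𝔞 I M), y = L a + f • y' := by
    intro y
    have h1 : p y ∈ Submodule.span A (S : Set (PSec 𝔞 (qn I M 0))) := hS.symm ▸ LinearMap.mem_range_self p y
    obtain ⟨a, ha⟩ := (Submodule.mem_span_range_iff_exists_fun A (v := fun s : S => (s : PSec 𝔞 (qn I M 0)))).1
      (by simpa using h1)
    obtain ⟨y', hy'⟩ := exists_eq_smul hIf hreg (y - L a) (by
      show p (y - L a) = 0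
      rw [map_sub, sub_eq_zero, ← ha]
      simp only [L, Fintype.linearCombination_apply, map_sum, map_smul, hg])
    exact ⟨a, y', by rw [hy', add_sub_cancel]⟩
  choose α β hαβ using hstep
  haveI := Groth.Agent.DRingLib.isAdicComplete_of_finite (I := I) (S → A)
  refine Module.Finite.of_surjective L fun y => ?_
  -- successive approximations
  let r : ℕ → FSec 𝔞 I M := fun k => β^[k] y
  let s : ℕ → (S → A) := fun k => ∑ j ∈ Finset.range k, f ^ j • α (r j)
  have hs : ∀ k, y = L (s k) + f ^ k • r k := by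
    intro k
    induction k with
    | zero => simp [s, r]
    | succ k ih =>
      rw [ih]
      simp only [s, Finset.sum_range_succ, map_add, map_smul, add_assoc, pow_succ, mul_smul, ← smul_add]
      congr 2
      show r k = L (α (r k)) + f • r (k + 1)
      simp only [r, Function.iterate_succ_apply']
      exact hαβ _
  have hfI : f ∈ I := hIf ▸ Ideal.mem_span_singleton_self f
  obtain ⟨a, ha⟩ := IsPrecomplete.prec (inferInstance : IsPrecomplete I (S → A)) (f := s) fun {k l} hkl => by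
    rw [SModEq.sub_mem, ← neg_sub (s l), Submodule.neg_mem_iff,
      show s l - s k = ∑ j ∈ Finset.Ico k l, f ^ j • α (r j) from (Finset.sum_Ico_eq_sub _ hkl).symm]
    exact Submodule.sum_mem _ fun j hj => Submodule.smul_mem_smul
      (Ideal.pow_le_pow_right (Finset.mem_Ico.1 hj).1 (Ideal.pow_mem_pow hfI j)) Submodule.mem_top
  refine ⟨a, Subtype.ext (funext fun n => ?_)⟩
  have h1 := SModEq.sub_mem.1 (ha (n + 1))
  have h2 : (L (s (n + 1) - a)).1 n = 0 := by
    refine Submodule.smul_induction_on h1 (fun b hb v _ => ?_) (fun v w hv hw => ?_)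
    · rw [map_smul]
      exact psec_smul_eq_zero hb _
    · rw [map_add]
      exact (congrArg₂ (· + ·) hv hw).trans (add_zero _)
  rw [map_sub] at h2
  conv_rhs => rw [hs (n + 1)]
  show (L a).1 n = (L (s (n + 1))).1 n + f ^ (n + 1) • (r (n + 1)).1 n
  rw [psec_smul_eq_zero (Ideal.pow_mem_pow hfI (n + 1)), add_zero]
  exact (sub_eq_zero.1 h2).symm

/-- Near the special fibre formal sections come from the module. -/
theorem exists_smul_mem_range (hIf : I = Ideal.span {f}) (hreg : IsSMulRegular M f) [Module.Finite A (FSec 𝔞 I M)]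
    (y : FSec 𝔞 I M) (p : PrimeSpectrum A) (hIp : I ≤ p.asIdeal) (hap : ¬ 𝔞 ≤ p.asIdeal) :
    ∃ h ∉ p.asIdeal, h • y ∈ LinearMap.range (fη 𝔞 I M) := by
  let C := FSec 𝔞 I M ⧸ LinearMap.range (fη 𝔞 I M)
  obtain ⟨g, hga, hgp⟩ := Set.not_subset.1 hap
  have hfI : f ∈ I := hIf ▸ Ideal.mem_span_singleton_self f
  have hC : ∀ c : C, ∃ (k : ℕ) (c' : C), g ^ k • c = f • c' := by
    intro c
    obtain ⟨y, rfl⟩ := Submodule.Quotient.mk_surjective _ c
    obtain ⟨k, v, hv⟩ := exists_pow_smul_eq_pto 𝔞 (qn I M 0) hga (y.1 0)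
    obtain ⟨m, rfl⟩ := Submodule.Quotient.mk_surjective _ v
    obtain ⟨y', hy'⟩ := exists_eq_smul hIf hreg (g ^ k • y - fη 𝔞 I M m) (by
      show g ^ k • y.1 0 - (fη 𝔞 I M m).1 0 = 0
      rw [hv, fη_apply]
      exact sub_self _)
    refine ⟨k, Submodule.Quotient.mk y', ?_⟩
    rw [← Submodule.Quotient.mk_smul, ← Submodule.Quotient.mk_smul, hy', Submodule.Quotient.eq]
    exact ⟨m, by abel⟩
  let B := Localization.AtPrime p.asIdeal
  let ι := LocalizedModule.mkLinearMap p.asIdeal.primeCompl C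
  haveI : Module.Finite B (LocalizedModule p.asIdeal.primeCompl C) :=
    Module.Finite.of_isLocalizedModule p.asIdeal.primeCompl ι
  have htop : (⊤ : Submodule B (LocalizedModule p.asIdeal.primeCompl C)) = ⊥ := by
    refine Submodule.eq_bot_of_le_smul_of_le_jacobson_bot (Ideal.span {algebraMap A B f}) ⊤ Module.Finite.fg_top ?_ ?_
    · intro z _
      obtain ⟨⟨c, s⟩, hcs⟩ := IsLocalizedModule.surj p.asIdeal.primeCompl ι z
      obtain ⟨k, c', hc'⟩ := hC c
      have hu : IsUnit (algebraMap A B (g ^ k * s)) := IsLocalization.map_units B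
        (⟨g ^ k * s, fun h => (p.isPrime.mem_or_mem h).elim (fun h' => hgp (p.isPrime.mem_of_pow_mem k h')) s.2⟩ :
          p.asIdeal.primeCompl)
      refine (Submodule.smul_mem_iff_of_isUnit _ hu).1 ?_
      rw [IsScalarTower.algebraMap_smul, mul_smul, show (s : A) • z = ι c from hcs, ← map_smul, hc', map_smul,
        ← IsScalarTower.algebraMap_smul B f]
      exact Submodule.smul_mem_smul (Ideal.mem_span_singleton_self _) Submodule.mem_top
    · rw [IsLocalRing.jacobson_eq_maximalIdeal ⊥ bot_ne_top, Ideal.span_singleton_le_iff_mem]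
      exact (IsLocalization.AtPrime.to_map_mem_maximal_iff B p.asIdeal f).2 (hIp hfI)
  obtain ⟨s, hs⟩ := (IsLocalizedModule.eq_zero_iff p.asIdeal.primeCompl ι).1
    ((Submodule.mem_bot B).1 (htop ▸ Submodule.mem_top : ι (Submodule.Quotient.mk y) ∈ (⊥ : Submodule B _)))
  refine ⟨s.1, s.2, (Submodule.Quotient.mk_eq_zero _).1 ?_⟩
  exact (Submodule.Quotient.mk_smul _ _ _).trans hs

/-- The colimit comparison along a regular element. -/
theorem formalCohColimBijective_regular (hI : I ≤ 𝔞) (hIf : I = Ideal.span {f}) (hreg : IsSMulRegular M f)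
    (hfin : Module.Finite A (LocCoh.H 𝔞 1 (M ⧸ (I • ⊤ : Submodule A M)))) :
    Formal2.FormalCohColimBijective A I M 0 (LocCoh.puncturedOpen A 𝔞) := by
  haveI := finite_FSec (𝔞 := 𝔞) hIf hreg hfin
  refine ⟨fun V hV x hx => colim_injective I M hI V hV x hx, fun y₀ hy₀ => ?_⟩
  let y : FSec 𝔞 I M := ⟨fun n => secEquiv 𝔞 (qn I M n) (y₀ n), fun n =>
    (secEquiv_natural 𝔞 (qt I M n) (y₀ (n + 1))).symm.trans (congrArg (secEquiv 𝔞 (qn I M n)) (hy₀ n))⟩
  let η := fη 𝔞 I M
  haveI : Module.Finite A (LinearMap.ker η) := Module.Finite.of_fg (IsNoetherian.noetherian _)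
  let K : Ideal A := (LinearMap.range η).comap (LinearMap.toSpanSingleton A (FSec 𝔞 I M) y)
  let K' : Ideal A := Module.annihilator A (LinearMap.ker η)
  let J := 𝔞 * (K * K')
  have hJa : J ≤ 𝔞 := Ideal.mul_le_left
  have hJI : ∀ q : PrimeSpectrum A, J ≤ q.asIdeal → I ≤ q.asIdeal → 𝔞 ≤ q.asIdeal := by
    intro q hq hIq
    by_contra ha
    rcases q.isPrime.mul_le.1 hq with h | h
    · exact ha h
    rcases q.isPrime.mul_le.1 h with h | h
    · obtain ⟨g, hg, hgy⟩ := exists_smul_mem_range hIf hreg y q hIq ha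
      exact hg (h (show g ∈ K from hgy))
    · obtain ⟨S, hS⟩ := (inferInstance : IsNoetherian A M).noetherian (LinearMap.ker η)
      have hker : ∀ m ∈ LinearMap.ker η, ∃ g ∉ q.asIdeal, g • m = 0 := by
        intro m hm
        obtain ⟨g, hg, hgm⟩ := exists_smul_eq_zero I M q hIq ha (pto 𝔞 (ModuleCat.of A M) m) fun n =>
          ⟨1, fun h1 => q.isPrime.ne_top ((Ideal.eq_top_iff_one _).2 h1), by
            rw [one_smul, pmap_pto]
            exact congrFun (congrArg Subtype.val (LinearMap.mem_ker.1 hm)) n⟩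
        rw [← map_smul] at hgm
        obtain ⟨k, hk⟩ := (pto_eq_zero_iff 𝔞 (ModuleCat.of A M) _).1 hgm
        obtain ⟨e, he, heq⟩ := Set.not_subset.1 ha
        exact ⟨e ^ k * g, fun h => (q.isPrime.mem_or_mem h).elim (fun h' => heq (q.isPrime.mem_of_pow_mem k h')) hg,
          (mul_smul _ _ _).trans (hk _ (Ideal.pow_mem_pow he k))⟩
      choose! e he he' using hker
      refine (fun hmem => ?_ : (∏ m ∈ S, e m) ∉ q.asIdeal) (h ?_)
      · obtain ⟨m, hm, hmq⟩ := (q.isPrime.prod_mem_iff).1 hmem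
        exact he m (hS ▸ Submodule.subset_span hm) hmq
      · rw [Module.mem_annihilator]
        rintro ⟨v, hv⟩
        refine Subtype.ext ?_
        show (∏ m ∈ S, e m) • v = 0
        rw [← hS] at hv
        induction hv using Submodule.span_induction with
        | mem v hv =>
          obtain ⟨c, hc⟩ := Finset.dvd_prod_of_mem e (Finset.mem_coe.1 hv)
          rw [hc, mul_comm, mul_smul, he' v (hS ▸ Submodule.subset_span hv), smul_zero]
        | zero => rw [smul_zero]
        | add v w _ _ hv hw => rw [smul_add, hv, hw, add_zero]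
        | smul a v _ hv => rw [smul_comm, hv, smul_zero]
  have hJK : J ^ 1 ≤ K := (pow_one J).le.trans (Ideal.mul_le_right.trans Ideal.mul_le_left)
  have hJK' : J ≤ K' := Ideal.mul_le_right.trans Ideal.mul_le_right
  let ψ : ↥(J ^ 1) →ₗ[A] M ⧸ LinearMap.ker η :=
    η.quotKerEquivRange.symm.toLinearMap ∘ₗ
      ((LinearMap.toSpanSingleton A (FSec 𝔞 I M) y) ∘ₗ (J ^ 1).subtype).codRestrict (LinearMap.range η)
        fun b => hJK b.2
  have hk : LinearMap.ker (LinearMap.ker η).mkQ ≤ DRing.torsionSub J M := by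
    rw [Submodule.ker_mkQ]
    intro m hm
    refine ⟨1, fun a ha => ?_⟩
    exact congrArg Subtype.val (Module.mem_annihilator.1 (hJK' ((pow_one J).le ha)) ⟨m, hm⟩)
  have hD : Function.Bijective (IdealTransLib.Dmap J (LinearMap.ker η).mkQ) :=
    IdealTransLib.Dmap_bijective hk (isPowerTorsion_coker_of_surjective J (Submodule.mkQ_surjective _))
  obtain ⟨ξ, hξ⟩ := hD.2 (IdealTransLib.mk 1 ψ)
  obtain ⟨x, hx⟩ := θ_surjective J (ModuleCat.of A M) ξ
  obtain ⟨x', hx'⟩ := (secEquiv J (ModuleCat.of A M)).surjective x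
  have hU : LocCoh.puncturedOpen A J ≤ LocCoh.puncturedOpen A 𝔞 := punct_le_punct hJa
  refine ⟨LocCoh.puncturedOpen A J, ⟨hU, fun p hp hIp hJp => hp (hJI p hJp hIp)⟩, x', fun n => ?_⟩
  refine (secEquiv J (qn I M n)).injective ?_
  refine (QCohLib.h0_res (F := (shF A).obj (qn I M n)) (homOfLE hU) (y₀ n)).trans ?_
  refine Eq.trans ?_ (secEquiv_natural J (qπ I M n) x').symm
  rw [hx']
  show pres hJa (qn I M n) (y.1 n) = _
  refine sub_eq_zero.1 (eq_zero_of_pow_smul J _ fun b hb => ⟨1, ?_⟩)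
  have hb' : b ^ 1 ∈ J ^ 1 := Ideal.pow_mem_pow hb 1
  obtain ⟨m, hm⟩ := hJK hb'
  have hψ : ψ ⟨b ^ 1, hb'⟩ = Submodule.Quotient.mk m := by
    show η.quotKerEquivRange.symm _ = _
    rw [LinearEquiv.symm_apply_eq]
    exact Subtype.ext (hm.symm.trans (LinearMap.quotKerEquivRange_apply_mk η m).symm)
  have hbx : b ^ 1 • x = pto J (ModuleCat.of A M) m := θ_injective J _ (hD.1 (by
    rw [map_smul, hx, map_smul, hξ, θ_pto, IdealTransLib.Dmap_toDT, IdealTransLib.smul_mk ψ hb', hψ]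
    rfl))
  rw [smul_sub, ← (pres hJa (qn I M n)).map_smul, ← (pmap J (qπ I M n)).map_smul, hbx, pmap_pto, show b ^ 1 • y.1 n = (η m).1 n from
    (congrFun (congrArg Subtype.val hm) n).symm, fη_apply, pres_pto, sub_self]

end Regular

end FormalPunctLib

end
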