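import Groth.Agent.FormalPunctLib.Main
import Groth.Agent.CommAlgDim.Depth

/-! Removing torsion supported away from the formal neighbourhood. -/

set_option autoImplicit false
set_option linter.style.haveILetI false
set_option maxHeartbeats 1000000
universe u

noncomputable section

open CategoryTheory AlgebraicGeometry
open Groth.Agent

attribute [local instance] HasDerivedCategory.standard

namespace FormalPunctLib

variable {A : Type u} [CommRing A] [IsNoetherianRing A]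

/-- Maps with torsion kernel and cokernel are bijective on sections over the punctured spectrum. -/
theorem bijective_HVmap_zero (J : Ideal A) {M N : Type u} [AddCommGroup M] [Module A M] [AddCommGroup N]
    [Module A N] (φ : M →ₗ[A] N) (hk : LinearMap.ker φ ≤ DRing.torsionSub J M)
    (hc : LocCoh.IsPowerTorsion J (N ⧸ LinearMap.range φ)) :
    Function.Bijective (Formal2.HVmap A φ 0 (LocCoh.puncturedOpen A J)) := by
  have hD := IdealTransLib.Dmap_bijective hk hc
  have h : ∀ x, zeroEquiv J (ModuleCat.of A N) (Formal2.HVmap A φ 0 (LocCoh.puncturedOpen A J) x) =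
      IdealTransLib.Dmap J φ (zeroEquiv J (ModuleCat.of A M) x) := fun x =>
    zeroEquiv_natural J (ModuleCat.ofHom φ) x
  refine ⟨fun x y hxy => ?_, fun y => ?_⟩
  · exact (zeroEquiv J (ModuleCat.of A M)).injective (hD.1 (by rw [← h, ← h, hxy]))
  · obtain ⟨w, hw⟩ := hD.2 (zeroEquiv J (ModuleCat.of A N) y)
    obtain ⟨x, rfl⟩ := (zeroEquiv J (ModuleCat.of A M)).surjective w
    exact ⟨x, (zeroEquiv J (ModuleCat.of A N)).injective ((h x).trans hw)⟩

theorem isPowerTorsion_coker_of_surjective (J : Ideal A) {M N : Type u} [AddCommGroup M] [Module A M]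
    [AddCommGroup N] [Module A N] {φ : M →ₗ[A] N} (hs : Function.Surjective φ) :
    LocCoh.IsPowerTorsion J (N ⧸ LinearMap.range φ) := fun z => by
  refine ⟨0, fun a _ => ?_⟩
  haveI : Subsingleton (N ⧸ LinearMap.range φ) := by
    rw [Submodule.Quotient.subsingleton_iff]
    exact LinearMap.range_eq_top.2 hs
  exact Subsingleton.elim _ _

variable (I 𝔞 : Ideal A) (M : Type u) [AddCommGroup M] [Module A M] [Module.Finite A M]

theorem finite_ass : (associatedPrimes A M).Finite := associatedPrimes.finite A M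

open Classical in
/-- The ideal of the associated primes away from the formal neighbourhood. -/
def farIdeal : Ideal A :=
  ((finite_ass (A := A) M).toFinset.filter fun p => ∀ r : Ideal A, r.IsPrime → p ≤ r → I ≤ r → 𝔞 ≤ r).inf id ⊓ 𝔞

theorem farIdeal_le : farIdeal I 𝔞 M ≤ 𝔞 := inf_le_right

theorem farIdeal_zeroLocus (q : PrimeSpectrum A) (hq : farIdeal I 𝔞 M ≤ q.asIdeal) (hIq : I ≤ q.asIdeal) :
    𝔞 ≤ q.asIdeal := by
  classical
  rcases q.isPrime.inf_le.1 hq with h | h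
  · obtain ⟨p, hp, hpq⟩ := q.isPrime.inf_le'.1 h
    exact (Finset.mem_filter.1 hp).2 q.asIdeal q.isPrime hpq hIq
  · exact h

theorem farIdeal_le_ass {p : Ideal A} (hp : p ∈ associatedPrimes A M)
    (h : ∀ r : Ideal A, r.IsPrime → p ≤ r → I ≤ r → 𝔞 ≤ r) : farIdeal I 𝔞 M ≤ p := by
  classical
  exact inf_le_left.trans (Finset.inf_le (f := id) (Finset.mem_filter.2 ⟨(finite_ass M).mem_toFinset.2 hp, h⟩))

/-- The module with the far part removed. -/
abbrev Sat : Type u := M ⧸ DRing.torsionSub (farIdeal I 𝔞 M) M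

/-- The projection. -/
abbrev satπ : M →ₗ[A] Sat I 𝔞 M := (DRing.torsionSub (farIdeal I 𝔞 M) M).mkQ

theorem ass_sat {q : Ideal A} (hq : q ∈ associatedPrimes A (Sat I 𝔞 M)) :
    q ∈ associatedPrimes A M ∧ ¬ farIdeal I 𝔞 M ≤ q := by
  classical
  obtain ⟨hqp, v, hv⟩ := (isAssociatedPrime_iff (R := A) (I := q) (M := Sat I 𝔞 M)).1 hq
  obtain ⟨x, rfl⟩ := Submodule.Quotient.mk_surjective _ v
  have hmem : ∀ a : A, a ∈ q ↔ a • x ∈ DRing.torsionSub (farIdeal I 𝔞 M) M := fun a => by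
    rw [hv, Submodule.mem_colon_singleton, Submodule.mem_bot, ← Submodule.Quotient.mk_smul,
      Submodule.Quotient.mk_eq_zero]
  -- a power of the far ideal kills all of `q • x`
  have hfg : ∀ N : Submodule A M, N ≤ DRing.torsionSub (farIdeal I 𝔞 M) M →
      ∃ k : ℕ, ∀ y ∈ N, ∀ a ∈ farIdeal I 𝔞 M ^ k, a • y = 0 := fun N hN => by
    obtain ⟨k, hk⟩ := IdealTransLib.exists_pow_smul_range (I := farIdeal I 𝔞 M) N.subtype ⊥ (fun y => by
      obtain ⟨t, ht⟩ := hN y.2
      exact ⟨t, fun a ha => by rw [Submodule.mem_bot]; exact ht a ha⟩)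
    exact ⟨k, fun y hy a ha => (Submodule.mem_bot A).1 (hk ⟨y, hy⟩ a ha)⟩
  have hnot : ¬ farIdeal I 𝔞 M ≤ q := fun hle => by
    obtain ⟨k, hk⟩ := hfg (Submodule.map (LinearMap.toSpanSingleton A M x) (farIdeal I 𝔞 M)) (by
      rintro _ ⟨a, ha, rfl⟩
      exact (hmem a).1 (hle ha))
    refine hqp.ne_top ((Ideal.eq_top_iff_one _).2 ((hmem 1).2 ?_))
    rw [one_smul]
    refine ⟨k + 1, fun a ha => ?_⟩
    rw [pow_succ] at ha
    induction ha using Submodule.mul_induction_on' with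
    | mem_mul_mem b hb c hc =>
      rw [mul_smul]
      exact hk _ ⟨c, hc, rfl⟩ b hb
    | add b _ c _ hb hc => rw [add_smul, hb, hc, add_zero]
  obtain ⟨g, hg, hgq⟩ := Set.not_subset.1 hnot
  obtain ⟨k, hk⟩ := hfg (Submodule.map (LinearMap.toSpanSingleton A M x) q) (by
    rintro _ ⟨a, ha, rfl⟩
    exact (hmem a).1 ha)
  refine ⟨(isAssociatedPrime_iff (R := A) (I := q) (M := M)).2 ⟨hqp, g ^ k • x, ?_⟩, hnot⟩
  ext a
  rw [Submodule.mem_colon_singleton, Submodule.mem_bot]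
  constructor
  · intro ha
    rw [smul_comm]
    exact hk _ ⟨a, ha, rfl⟩ _ (Ideal.pow_mem_pow hg k)
  · intro ha
    rw [smul_smul] at ha
    refine (hqp.mem_or_mem ((hmem (a * g ^ k)).2 (by rw [ha]; exact zero_mem _))).resolve_right
      fun h => hgq (hqp.mem_of_pow_mem k h)

/-- Positive depth outside the associated primes. -/
theorem pos_depth_of_notMem_ass {N : Type u} [AddCommGroup N] [Module A N] [Module.Finite A N] (p : Ideal A)
    [p.IsPrime] (h : p ∉ associatedPrimes A N) :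
    ((0 : ℕ) : ℕ∞) < LocCoh.depth (Localization.AtPrime p) (LocalizedModule p.primeCompl N) := by
  haveI : IsNoetherianRing (Localization.AtPrime p) :=
    IsLocalization.isNoetherianRing p.primeCompl _ inferInstance
  haveI : Module.Finite (Localization.AtPrime p) (LocalizedModule p.primeCompl N) :=
    Module.Finite.of_isLocalizedModule p.primeCompl (LocalizedModule.mkLinearMap p.primeCompl N)
  refine lt_of_lt_of_le (ENat.coe_lt_coe.2 Nat.zero_lt_one) ((CommAlgDim.le_depth_iff 1).2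
    ((CommAlgDim.hasSeqIn_one_iff _).2 fun P hP hle => h ?_))
  have hPm : P = IsLocalRing.maximalIdeal (Localization.AtPrime p) :=
    ((IsLocalRing.maximalIdeal.isMaximal _).eq_of_le hP.isPrime.ne_top hle).symm
  rw [← Module.associatedPrimes.preimage_comap_associatedPrimes_eq_associatedPrimes_of_isLocalizedModule
    p.primeCompl (Localization.AtPrime p) (LocalizedModule.mkLinearMap p.primeCompl N), Set.mem_preimage, hPm] at hP
  exact (IsLocalization.AtPrime.comap_maximalIdeal (Localization.AtPrime p) p : _ = p) ▸ hP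

variable {I 𝔞 M} {d : ℕ}

theorem hyp_sat
    (h₂ : ∀ p ∈ associatedPrimes A M, ¬ 𝔞 ≤ p → ¬ I ≤ p →
      (∃ r : Ideal A, r.IsPrime ∧ p ≤ r ∧ I ≤ r ∧ ¬ 𝔞 ≤ r) →
        ∀ (q : Ideal A) [q.IsPrime], p ≤ q → 𝔞 ≤ q → ((d + 1 : ℕ) : WithBot ℕ∞) < Formal2.dimBetween A p q) :
    Hyp I 𝔞 d (Sat I 𝔞 M) 0 := by
  intro p _ hap hIp
  by_cases hp : p ∈ associatedPrimes A (Sat I 𝔞 M)
  · obtain ⟨hpM, hfar⟩ := ass_sat I 𝔞 M hp
    have hr : ∃ r : Ideal A, r.IsPrime ∧ p ≤ r ∧ I ≤ r ∧ ¬ 𝔞 ≤ r := by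
      by_contra hne
      exact hfar (farIdeal_le_ass I 𝔞 M hpM fun r hrp hpr hIr =>
        by_contra fun har => hne ⟨r, hrp, hpr, hIr, har⟩)
    refine Or.inr fun q _ hpq haq => ?_
    refine lt_of_lt_of_le (h₂ p hpM hap hIp hr q hpq haq) ?_
    exact le_add_of_nonneg_left (WithBot.coe_le_coe.2 zero_le)
  · exact Or.inl (pos_depth_of_notMem_ass p hp)

omit [IsNoetherianRing A] in
/-- The map of quotient systems. -/
def satn (n : ℕ) : Formal2.quotPow A I M n →ₗ[A] Formal2.quotPow A I (Sat I 𝔞 M) n :=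
  Submodule.mapQ _ _ (satπ I 𝔞 M) (by
    rw [← Submodule.map_le_iff_le_comap, Submodule.map_smul'']
    exact Submodule.smul_mono le_rfl le_top)

theorem satn_quotPowπ (n : ℕ) :
    (satn (I := I) (𝔞 := 𝔞) (M := M) n).comp (Formal2.quotPowπ A I M n) =
      (Formal2.quotPowπ A I (Sat I 𝔞 M) n).comp (satπ I 𝔞 M) :=
  LinearMap.ext fun _ => rfl

theorem satn_trans (n : ℕ) :
    (satn (I := I) (𝔞 := 𝔞) (M := M) n).comp (Formal2.quotPowTrans A I M n) =
      (Formal2.quotPowTrans A I (Sat I 𝔞 M) n).comp (satn (n + 1)) :=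
  Submodule.linearMap_qext _ (LinearMap.ext fun _ => rfl)

theorem satn_bijective {J : Ideal A} (hJ : J ≤ farIdeal I 𝔞 M) (n : ℕ) :
    Function.Bijective (Formal2.HVmap A (satn (I := I) (𝔞 := 𝔞) (M := M) n) 0 (LocCoh.puncturedOpen A J)) := by
  refine bijective_HVmap_zero J _ ?_ ?_
  · intro z hz
    obtain ⟨m, rfl⟩ := Submodule.Quotient.mk_surjective _ z
    rw [LinearMap.mem_ker] at hz
    have h1 : satπ I 𝔞 M m ∈ (I ^ (n + 1) • ⊤ : Submodule A (Sat I 𝔞 M)) :=
      (Submodule.Quotient.mk_eq_zero _).1 hz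
    rw [← Submodule.range_mkQ (DRing.torsionSub (farIdeal I 𝔞 M) M), ← Submodule.map_top,
      ← Submodule.map_smul''] at h1
    obtain ⟨m', hm', he⟩ := h1
    obtain ⟨k, hk⟩ : m - m' ∈ DRing.torsionSub (farIdeal I 𝔞 M) M := (Submodule.Quotient.eq _).1 he.symm
    refine ⟨k, fun a ha => ?_⟩
    rw [← Submodule.Quotient.mk_smul, Submodule.Quotient.mk_eq_zero]
    rw [show a • m = a • m' + a • (m - m') by rw [smul_sub]; abel,
      hk a (Ideal.pow_right_mono hJ k ha), add_zero]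
    exact Submodule.smul_mem _ _ hm'
  · refine isPowerTorsion_coker_of_surjective J fun z => ?_
    obtain ⟨v, rfl⟩ := Submodule.Quotient.mk_surjective _ z
    obtain ⟨m, rfl⟩ := Submodule.Quotient.mk_surjective _ v
    exact ⟨Submodule.Quotient.mk m, rfl⟩

theorem satπ_bijective {J : Ideal A} (hJ : J ≤ farIdeal I 𝔞 M) :
    Function.Bijective (Formal2.HVmap A (satπ I 𝔞 M) 0 (LocCoh.puncturedOpen A J)) := by
  refine bijective_HVmap_zero J _ ?_ (isPowerTorsion_coker_of_surjective J (Submodule.mkQ_surjective _))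
  rw [Submodule.ker_mkQ]
  rintro m ⟨k, hk⟩
  exact ⟨k, fun a ha => hk a (Ideal.pow_right_mono hJ k ha)⟩

omit [IsNoetherianRing A] [Module.Finite A M] in
theorem HVmap_comp {N P : Type u} [AddCommGroup N] [Module A N] [AddCommGroup P] [Module A P]
    (ψ : N →ₗ[A] P) (φ : M →ₗ[A] N) (i : ℕ) (V : (Spec (CommRingCat.of A)).Opens) (x : Formal2.HV A M i V) :
    Formal2.HVmap A (ψ ∘ₗ φ) i V x = Formal2.HVmap A ψ i V (Formal2.HVmap A φ i V x) :=
  congr($((((hvDelta A V).F i).map_comp (ModuleCat.ofHom φ) (ModuleCat.ofHom ψ))).hom x)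

omit [IsNoetherianRing A] [Module.Finite A M] in
theorem HVres_res (i : ℕ) {V V' V'' : (Spec (CommRingCat.of A)).Opens} (h : V' ≤ V) (h' : V'' ≤ V')
    (x : Formal2.HV A M i V) :
    Formal2.HVres A M i h' (Formal2.HVres A M i h x) = Formal2.HVres A M i (h'.trans h) x :=
  (congr($(((Sheaf.cohomologyPresheaf (Coh.toAb (Formal2.tmod A M)) i).map_comp
    (homOfLE h).op (homOfLE h').op)).hom x)).symm

variable [IsAdicComplete I A]

/-- Sections of formal neighbourhoods, from the colimit. -/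
theorem formalCohColimBijective_zero (hI : I ≤ 𝔞) {ω : Dual.D A} (hω : Dual.IsDualizing A ω)
    (hd : LocCoh.CdLE A I d) (h : Hyp I 𝔞 d (Sat I 𝔞 M) 0) :
    Formal2.FormalCohColimBijective A I M 0 (LocCoh.puncturedOpen A 𝔞) := by
  obtain ⟨hinj, hsurj⟩ := formalCohColimBijective hI hω hd h
  refine ⟨fun V hV x hx => ?_, fun y hy => ?_⟩
  · obtain ⟨V', ⟨hV', hVV⟩, h0⟩ := hinj V hV (Formal2.HVmap A (satπ I 𝔞 M) 0 V x) fun n => by
      rw [← HVmap_comp, ← satn_quotPowπ, HVmap_comp, hx n, map_zero]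
    obtain ⟨J, hJ, -, hJV, hJa⟩ := exists_admissible_punct hI (farIdeal_le I 𝔞 M)
      (farIdeal_zeroLocus I 𝔞 M) V' hV'
    refine ⟨_, ⟨hJa, hJV.trans hVV⟩, (satπ_bijective hJ).1 ?_⟩
    rw [map_zero, ← HVres_HVmap, ← HVres_res 0 hVV hJV, h0, map_zero]
  · obtain ⟨V, hV, x', hx'⟩ := hsurj (fun n => Formal2.HVmap A (satn n) 0 _ (y n)) fun n => by
      rw [← HVmap_comp, ← satn_trans, HVmap_comp, hy n]
    obtain ⟨J, hJ, -, hJV, hJa⟩ := exists_admissible_punct hI (farIdeal_le I 𝔞 M)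
      (farIdeal_zeroLocus I 𝔞 M) V hV
    obtain ⟨x, hx⟩ := (satπ_bijective hJ).2 (Formal2.HVres A (Sat I 𝔞 M) 0 hJV x')
    refine ⟨_, hJa, x, fun n => (satn_bijective hJ n).1 ?_⟩
    rw [← HVres_HVmap, ← HVres_res 0 hV.1 hJV, hx' n, ← HVmap_comp, satn_quotPowπ, HVmap_comp, hx,
      HVres_HVmap]

end FormalPunctLib

end
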