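import Groth.Agent.FormalPunctLib.Delta
import Groth.Agent.CommAlgDim.PunctSections
import Groth.Agent.IdealTransLib.Kappa

/-! Sections over a punctured spectrum are the ideal transform. -/

set_option autoImplicit false
set_option linter.style.haveILetI false
set_option maxHeartbeats 1000000
universe u

noncomputable section

open CategoryTheory CategoryTheory.Limits AlgebraicGeometry TopologicalSpace Opposite
open CommAlgDim PunctSections

namespace FormalPunctLib

variable {A : Type u} [CommRing A] (J : Ideal A)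

/-- Sections over the punctured spectrum, as a module. -/
abbrev PSec (M : ModuleCat.{u} A) : ModuleCat.{u} A := Sec (R := CommRingCat.of A) M (compl (R := CommRingCat.of A) J)

/-- Functoriality of sections. -/
def pmap {M N : ModuleCat.{u} A} (φ : M ⟶ N) : PSec J M →ₗ[A] PSec J N :=
  ((modulesSpecToSheaf.map (tilde.map (R := CommRingCat.of A) φ)).hom.app (op (compl (R := CommRingCat.of A) J))).hom

/-- The canonical map. -/
def pto (M : ModuleCat.{u} A) : M →ₗ[A] PSec J M := toSec (R := CommRingCat.of A) M (compl (R := CommRingCat.of A) J)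

theorem pmap_pto {M N : ModuleCat.{u} A} (φ : M ⟶ N) (m : M) : pmap J φ (pto J M m) = pto J N (φ.hom m) :=
  ConcreteCategory.congr_hom (tilde.toOpen_map_app (R := CommRingCat.of A) φ (compl (R := CommRingCat.of A) J)) m

theorem eq_zero_of_pow_smul {M : ModuleCat.{u} A} (s : PSec J M)
    (h : ∀ f ∈ J, ∃ n : ℕ, f ^ n • s = 0) : s = 0 := by
  refine sec_ext (R := CommRingCat.of A) (fun f : (J : Set A) => bo (R := CommRingCat.of A) (f : A))
    (fun f => basicOpen_le_compl (R := CommRingCat.of A) f.2)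
    (compl_le_iSup (R := CommRingCat.of A) (Ideal.span_eq J)) fun f => ?_
  obtain ⟨n, hn⟩ := h f f.2
  rw [map_zero]
  refine ((isSMulRegular_sec (R := CommRingCat.of A) (M := M) (U := bo (R := CommRingCat.of A) (f : A))
    (f := (f : A)) le_rfl).pow n).right_eq_zero_of_smul ?_
  exact (map_smul _ _ _).symm.trans ((congrArg _ hn).trans (map_zero _))

variable [IsNoetherianRing A]

theorem ker_pto_le (M : ModuleCat.{u} A) : LinearMap.ker (pto J M) ≤ DRing.torsionSub J M := by
  intro m hm
  have h := (toSec_compl_eq_zero_iff (R := CommRingCat.of A) (M := M) J m).1 hm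
  have hle : J ≤ ((⊥ : Submodule A M).colon {m}).radical := fun f hf => by
    obtain ⟨n, hn⟩ := h f hf
    exact ⟨n, Submodule.mem_colon_singleton.2 ((Submodule.mem_bot A).2 hn)⟩
  obtain ⟨k, hk⟩ := Ideal.exists_pow_le_of_le_radical_of_fg hle (IsNoetherian.noetherian J)
  exact ⟨k, fun a ha => (Submodule.mem_bot A).1 (Submodule.mem_colon_singleton.1 (hk ha))⟩

theorem coker_pto (M : ModuleCat.{u} A) : LocCoh.IsPowerTorsion J (PSec J M ⧸ LinearMap.range (pto J M)) := by
  haveI : IsNoetherianRing (CommRingCat.of A) := ‹IsNoetherianRing A›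
  intro z
  obtain ⟨s, rfl⟩ := Submodule.Quotient.mk_surjective _ z
  have hle : J ≤ ((LinearMap.range (pto J M)).colon {s}).radical := fun f hf => by
    obtain ⟨n, m, hm⟩ := exists_pow_smul_eq_toSec (R := CommRingCat.of A) (M := M) J s hf
    exact ⟨n, Submodule.mem_colon_singleton.2 ⟨m, hm.symm⟩⟩
  obtain ⟨k, hk⟩ := Ideal.exists_pow_le_of_le_radical_of_fg hle (IsNoetherian.noetherian J)
  refine ⟨k, fun a ha => ?_⟩
  rw [← Submodule.Quotient.mk_smul, Submodule.Quotient.mk_eq_zero]
  exact Submodule.mem_colon_singleton.1 (hk ha)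

/-- Sections over the punctured spectrum map to the ideal transform. -/
def θ (M : ModuleCat.{u} A) : PSec J M →ₗ[A] LocCoh.DT J M :=
  (IdealTransLib.existsUnique_factor (ker_pto_le J M) (coker_pto J M) LinearMap.id).exists.choose

theorem θ_comp_pto (M : ModuleCat.{u} A) : θ J M ∘ₗ pto J M = LocCoh.toDT J M :=
  ((IdealTransLib.existsUnique_factor (ker_pto_le J M) (coker_pto J M) LinearMap.id).exists.choose_spec).trans
    (LinearMap.comp_id _)

theorem θ_pto (M : ModuleCat.{u} A) (m : M) : θ J M (pto J M m) = LocCoh.toDT J M m :=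
  LinearMap.congr_fun (θ_comp_pto J M) m

theorem θ_natural {M N : ModuleCat.{u} A} (φ : M ⟶ N) (s : PSec J M) :
    θ J N (pmap J φ s) = IdealTransLib.Dmap J φ.hom (θ J M s) := by
  refine LinearMap.congr_fun (IdealTransLib.hom_ext_torsion (g := θ J N ∘ₗ pmap J φ)
    (h := IdealTransLib.Dmap J φ.hom ∘ₗ θ J M) (e := pto J M) (coker_pto J M) (LinearMap.ext fun m => ?_)) s
  show θ J N (pmap J φ (pto J M m)) = IdealTransLib.Dmap J φ.hom (θ J M (pto J M m))
  rw [pmap_pto, θ_pto, θ_pto, IdealTransLib.Dmap_toDT]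

theorem θ_injective (M : ModuleCat.{u} A) : Function.Injective (θ J M) := by
  rw [injective_iff_map_eq_zero]
  intro s hs
  refine eq_zero_of_pow_smul J s fun f hf => ?_
  obtain ⟨n, hn⟩ := coker_pto J M (Submodule.Quotient.mk s)
  have h1 := hn (f ^ n) (Ideal.pow_mem_pow hf n)
  rw [← Submodule.Quotient.mk_smul, Submodule.Quotient.mk_eq_zero] at h1
  obtain ⟨m, hm⟩ := h1
  have h2 : LocCoh.toDT J M m = 0 := by rw [← θ_pto, hm, map_smul, hs, smul_zero]
  obtain ⟨k, hk⟩ := IdealTransLib.ker_toDT.le (LinearMap.mem_ker.2 h2)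
  refine ⟨k + n, ?_⟩
  rw [pow_add, mul_smul, ← hm, ← map_smul, hk _ (Ideal.pow_mem_pow hf k), map_zero]

/-- `H^0` of the punctured spectrum in terms of sections. -/
def secEquiv (M : ModuleCat.{u} A) :
    ((hvDelta A (LocCoh.puncturedOpen A J)).F 0).obj M ≃+ PSec J M :=
  QCohLib.h0 (F := (shF A).obj M) (U := LocCoh.puncturedOpen A J)

theorem secEquiv_natural {M N : ModuleCat.{u} A} (φ : M ⟶ N)
    (x : ((hvDelta A (LocCoh.puncturedOpen A J)).F 0).obj M) :
    secEquiv J N ((((hvDelta A (LocCoh.puncturedOpen A J)).F 0).map φ).hom x) = pmap J φ (secEquiv J M x) :=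
  QCohLib.h0_comp (F := (shF A).obj M) (G := (shF A).obj N) x ((shF A).map φ)

theorem θ_surjective (M : ModuleCat.{u} A) : Function.Surjective (θ J M) := fun x => by
  let S := IdealTransLib.seq M
  have hS : S.ShortExact := LocCohLib.DeltaFun.under_shortExact M
  obtain ⟨e, he⟩ := IdealTransLib.toDT_surjective_of_baer (IdealTransLib.baer_seq M)
    (IdealTransLib.Dmap J S.f.hom x)
  have hg : pmap J S.g (pto J S.X₂ e) = 0 := by
    refine θ_injective J S.X₃ ?_
    rw [θ_natural, θ_pto, he, map_zero]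
    exact (IdealTransLib.exact_Dmap (IdealTransLib.ι_injective M) (IdealTransLib.seq_exact M)).apply_apply_eq_zero x
  let D := hvDelta A (LocCoh.puncturedOpen A J)
  obtain ⟨w, hw⟩ := (secEquiv J S.X₂).surjective (pto J S.X₂ e)
  have hw0 : ((D.F 0).map S.g).hom w = 0 := (secEquiv J S.X₃).injective (by
    rw [secEquiv_natural, hw, hg, map_zero])
  haveI := D.preservesZero 0
  obtain ⟨v, hv⟩ := (ShortComplex.ab_exact_iff _).1 (D.exact₂ hS 0) w hw0
  refine ⟨secEquiv J M v, IdealTransLib.Dmap_injective_of_injective (I := J) (IdealTransLib.ι_injective M) ?_⟩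
  have h1 : θ J S.X₂ (pmap J S.f (secEquiv J M v)) = IdealTransLib.Dmap J S.f.hom x := by
    refine (congrArg (θ J S.X₂) ((secEquiv_natural J S.f v).symm.trans ((congrArg (secEquiv J S.X₂) hv).trans hw))).trans ?_
    rw [θ_pto, he]
  exact (θ_natural J S.f _).symm.trans h1

/-- The degree zero comparison. -/
def zeroEquiv (M : ModuleCat.{u} A) :
    ((hvDelta A (LocCoh.puncturedOpen A J)).F 0).obj M ≃+ LocCoh.DT J M :=
  (secEquiv J M).trans (AddEquiv.ofBijective (θ J M).toAddMonoidHom ⟨θ_injective J M, θ_surjective J M⟩)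

/-- The degree zero comparison, natural. -/
def zeroIso : (hvDelta A (LocCoh.puncturedOpen A J)).F 0 ≅
    LocCoh.idealTransform J ⋙ forget₂ (ModuleCat.{u} A) AddCommGrpCat.{u} :=
  NatIso.ofComponents (fun M => AddEquiv.toAddCommGrpIso (zeroEquiv J M)) fun {M N} φ => by
    ext x
    show θ J N (secEquiv J N ((((hvDelta A (LocCoh.puncturedOpen A J)).F 0).map φ).hom x)) = _
    rw [secEquiv_natural, θ_natural]
    rfl

end FormalPunctLib

end
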